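import Cfsg.Agent.FixBN.ReeSplit
import Cfsg.Agent.LieRecognition.SzMatrix
import Cfsg.Agent.S1162
import Cfsg.Agent.FixBN.SplitRGD
import Cfsg.Agent.Nodes.RGDLie
import Cfsg.Agent.Mrg.ParSys.Fam.TwoFFour
set_option linter.all false

/-!
# Split (B,N)-pairs of the finite simple groups of Lie type

* `hasSplit_of_isLieTypeChar` : a finite simple group of Lie type in characteristic `p` has a split (B,N)-pair of
  characteristic `p` (every prime `p`, all the families).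

The Suzuki groups and the root group data are treated as in `Mrg/Omega/ML/LieRow/Lie.lean`; this module does not
depend on the rest of that folder.
-/

set_option autoImplicit false

namespace Cfsg.Agent.H979.LieSplit.Sz

open Cfsg.Agent.FixBN Cfsg.Agent.FixBN.ReeSplit Cfsg.Agent.LieRecognition.SzMatrix

variable {F : Type*} [Field F] {θ : F →+* F} {e : ℕ}

/-- The monomial subgroup. -/
def nSub (H : Good F θ e) : Subgroup ↥(Cfsg.Lie.Sz F e) where
  carrier := {g | (∃ a, g = H.d a) ∨ ∃ a, g = H.d a * H.w}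
  mul_mem' := by
    rintro _ _ (⟨a, rfl⟩ | ⟨a, rfl⟩) (⟨b, rfl⟩ | ⟨b, rfl⟩)
    · exact Or.inl ⟨a * b, H.d_mul a b⟩
    · exact Or.inr ⟨a * b, by rw [← H.d_mul, mul_assoc]⟩
    · exact Or.inr ⟨a * b⁻¹, by rw [← H.d_mul, mul_assoc, H.w_mul_d, mul_assoc]⟩
    · refine Or.inl ⟨a * b⁻¹, ?_⟩
      rw [← H.d_mul]
      calc H.d a * H.w * (H.d b * H.w) = H.d a * (H.w * H.d b) * H.w := by group
        _ = H.d a * H.d b⁻¹ * (H.w * H.w) := by rw [H.w_mul_d]; group
        _ = _ := by rw [H.w_mul_w, mul_one]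
  one_mem' := Or.inl ⟨1, H.d_one.symm⟩
  inv_mem' := by
    rintro _ (⟨a, rfl⟩ | ⟨a, rfl⟩)
    · exact Or.inl ⟨a⁻¹, H.d_inv a⟩
    · refine Or.inr ⟨a, ?_⟩
      rw [_root_.mul_inv_rev, H.w_inv, H.d_inv, H.w_mul_d, inv_inv]

/-- elements of `B ∩ N` are in the torus -/
theorem mem_inf (H : Good F θ e) {g : ↥(Cfsg.Lie.Sz F e)} (hB : g ∈ H.borel) (hN : g ∈ nSub H) : ∃ a, g = H.d a := by
  rcases hN with h1 | ⟨a, rfl⟩
  · exact h1
  · exfalso
    apply H.w_not_mem_borel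
    have h1 := mul_mem (inv_mem (H.d_mem_borel a)) hB
    rwa [inv_mul_cancel_left] at h1

theorem bruhat' (H : Good F θ e) (g : ↥(Cfsg.Lie.Sz F e)) :
    g ∈ H.borel ∨ ∃ b ∈ H.borel, ∃ b' ∈ H.borel, g = b * H.w * b' := by
  by_cases hg : g ∈ H.borel
  · exact Or.inl hg
  · obtain ⟨s, hs, h⟩ := H.bruhat_sz g hg
    exact Or.inr ⟨s, H.unip_le_borel hs, _, h, by group⟩

theorem u_one_ne (H : Good F θ e) : H.u 1 0 ≠ 1 := by
  rw [← H.u_zero]
  exact fun h => one_ne_zero (H.u_inj h).1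

/-- The (B,N)-pair. -/
def bnPair (H : Good F θ e) : Cfsg.BNPair ↥(Cfsg.Lie.Sz F e) :=
  rankOne H.borel (nSub H) H.w (Or.inr ⟨1, by rw [H.d_one, one_mul]⟩)
    (by rw [H.w_mul_w]; exact one_mem _) (bruhat' H)
    (by
      rintro g (⟨a, rfl⟩ | ⟨a, rfl⟩)
      · exact Or.inl (H.d_mem_borel a)
      · exact Or.inr ⟨H.d a, ⟨H.d_mem_borel a, Or.inl ⟨a, rfl⟩⟩, rfl⟩)
    (by
      rintro t ⟨ht1, ht2⟩
      obtain ⟨a, rfl⟩ := mem_inf H ht1 ht2
      rw [H.w_mul_d, mul_inv_cancel_right]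
      exact H.d_mem_borel _)
    (by
      refine ⟨H.u 1 0, H.u_mem_borel 1 0, fun hn => ?_⟩
      rw [← H.w_inv] at hn
      have h2 : (H.w)⁻¹ * H.u 1 0 * H.w ∈ H.borel := by
        have : (H.w)⁻¹ * H.u 1 0 * (H.w)⁻¹ = (H.w)⁻¹ * H.u 1 0 * H.w := by rw [H.w_inv]
        rwa [this] at hn
      exact u_one_ne H (H.inter_trivial _ (H.u_mem_unip 1 0) h2))

theorem split [Fintype F] {m : ℕ} (hm : 1 ≤ m) (hF : Fintype.card F = 2 ^ (2 * m + 1)) (H : Good F θ e)
    (hs : IsSimpleGroup ↥(Cfsg.Lie.Sz F e)) : Split (bnPair H) 2 H.unip := by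
  have : Fact (Nat.Prime 2) := ⟨Nat.prime_two⟩
  refine ⟨H.unip_le_borel, H.borel_normalizes, ?_, ?_, ⟨Fintype.card F - 1, ?_, ?_⟩, ?_, ?_⟩
  · apply IsPGroup.of_card (n := (2 * m + 1) * 2)
    rw [H.card_unip, Nat.card_eq_fintype_card, hF, ← pow_mul]
  · intro b hb
    obtain ⟨a, c, k, rfl⟩ := (H.mem_borel_iff' b).1 hb
    refine ⟨H.u a c, H.u_mem_unip a c, ?_⟩
    rw [inv_mul_cancel_left]
    exact Or.inl ⟨k, rfl⟩
  · rw [hF]
    have h1 : 2 ∣ 2 ^ (2 * m + 1) := dvd_pow_self 2 (by omega)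
    have h2 : 0 < 2 ^ (2 * m + 1) := by positivity
    omega
  · intro g hB hN
    obtain ⟨a, rfl⟩ := mem_inf H hB hN
    have h1 : ∀ k : ℕ, H.d a ^ k = H.d (a ^ k) := by
      intro k
      induction k with
      | zero => rw [pow_zero, pow_zero, H.d_one]
      | succ k ih => rw [pow_succ, ih, pow_succ, H.d_mul]
    rw [h1]
    have h2 : a ^ (Fintype.card F - 1) = 1 := by
      have h3 : Nat.card Fˣ = Fintype.card F - 1 := by rw [Nat.card_units, Nat.card_eq_fintype_card]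
      rw [← h3]
      exact pow_card_eq_one'
    rw [h2, H.d_one]
  · intro s hs'
    have hs'' : s = H.w := hs'
    subst hs''
    refine ⟨⊥, bot_le, ⟨H.u 1 0, H.u_mem_unip 1 0, fun h1 => u_one_ne H (Subgroup.mem_bot.1 h1)⟩, ?_, ?_, ?_⟩
    · intro b _ v hv
      rw [Subgroup.mem_bot] at hv ⊢
      rw [hv]; group
    · intro v hv
      rw [Subgroup.mem_bot] at hv ⊢
      rw [hv]; group
    · intro u hu hB
      rw [Subgroup.mem_bot]
      exact H.inter_trivial u hu hB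
  · rcases hs.eq_bot_or_eq_top_of_normal (bnPair H).B.normalCore inferInstance with h | h
    · exact h
    · exfalso
      have h1 : (bnPair H).B = ⊤ := by
        rw [eq_top_iff, ← h]
        exact Subgroup.normalCore_le _
      apply H.w_not_mem_borel
      have h2 : H.w ∈ (bnPair H).B := by rw [h1]; trivial
      exact h2

/-- The split (B,N)-pair of `Sz(q)`. -/
theorem hasSplit_of_isoSuzuki {G : Type*} [Group G] (h : Cfsg.Lie.IsoSuzuki G) : HasSplit 2 G := by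
  obtain ⟨K, i1, i2, m, hm, hK, ⟨e⟩⟩ := h
  have H := good hK
  have hs : IsSimpleGroup ↥(Cfsg.Lie.Sz K (2 ^ (m + 1))) := Cfsg.Agent.S1162.result hm hK
  exact Transport.hasSplit_congr e.symm ⟨bnPair H, H.unip, ⟨H.w, rfl⟩, split hm hK H hs⟩

end Cfsg.Agent.H979.LieSplit.Sz

namespace Cfsg.Agent.H979.LieSplit

open Subgroup Cfsg Cfsg.Agent.FixBN

/-- a nontrivial group has no root group datum of rank zero -/
theorem hasSplit_of_rgd {p : ℕ} (hp : p.Prime) {G : Type*} [Group G] [IsSimpleGroup G]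
    (h : Nodes.RGDChev.HasRGD p G) : HasSplit p G := by
  obtain ⟨l, M, A, h, T, n, X, hW, R, hX⟩ := h
  rcases Nat.eq_zero_or_pos l with rfl | hl
  · exfalso
    have h1 : Nodes.RGDLib.G1 M.toCoxeterSystem h X = ⊥ := by
      rw [eq_bot_iff]
      unfold Nodes.RGDLib.G1 Nodes.BNOf.RGD.Sup
      refine iSup_le ?_
      rintro ⟨x, w, i, -⟩
      exact i.elim0
    rw [h1] at hX
    obtain ⟨x, y, hxy⟩ := exists_pair_ne G
    have h2 : ∀ z : G, z = 1 := fun z => mem_bot.1 (by rw [hX]; trivial)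
    exact hxy ((h2 x).trans (h2 y).symm)
  · have : Nonempty (Fin l) := ⟨⟨0, hl⟩⟩
    exact SplitRGD.hasSplit_of_rgd hp R (by
      rw [eq_top_iff, ← hX]
      exact Nodes.RGDLib.rgd_G1_le R)

theorem hasSplit_of_iso2F4 {G : Type*} [Group G] (h : Lie.Iso2F4 G) : HasSplit 2 G := by
  obtain ⟨K, i1, i2, m, hm, hK, ⟨e⟩⟩ := h
  obtain ⟨Q, UE, s, t, hp, -⟩ := ParSys.Fam.TwoFFour.exists_all hm hK
  refine Transport.hasSplit_congr e.symm ⟨Q, UE, ⟨s, ?_⟩, hp.split⟩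
  rw [hp.S]
  exact Set.mem_insert _ _

/-- Every finite simple group of Lie type in characteristic `p` has a split (B,N)-pair of characteristic `p`. -/
theorem hasSplit_of_isLieTypeChar {p : ℕ} (hp : p.Prime) {G : Type*} [Group G] [IsSimpleGroup G]
    (h : IsLieTypeChar p G) : HasSplit p G := by
  rcases Nodes.RGDLie.hasRGD_of_lie h with h1 | ⟨rfl, h1⟩ | ⟨rfl, h1⟩ | ⟨rfl, h1⟩
  · exact hasSplit_of_rgd hp h1
  · exact Sz.hasSplit_of_isoSuzuki h1
  · exact hasSplit_of_iso2F4 h1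
  · exact ReeSplit.hasSplit_of_isoRee h1

end Cfsg.Agent.H979.LieSplit
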