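import Mathlib
import Cfsg.Agent.H552.Crit2
import Cfsg.Agent.PLocal.HHBCore
import Cfsg.Agent.PLocal.HHBClifford
import Cfsg.Agent.PLocal.HHBLinear
import Cfsg.Agent.PLocal.HHBJordan
import Cfsg.Agent.H557.E1
set_option linter.all false

-- part: H552/WData
section
/-!
# The linearized situation for S4258 (helper552)

`W = Q / Z(Q)` as a vector space over `ZMod q`, with the action `σ` of `G`, and the commutator forms `b i`, one for
each weight of `Z(Q)` in the module `V`.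
-/

set_option autoImplicit false
set_option linter.unusedSectionVars false
set_option linter.unusedVariables false

universe u

namespace Cfsg.Agent.H552

open Module

/-- the weight space of the subgroup `A` for the signs `α` -/
def wt {q : ℕ} {G : Type*} [Group G] {W : Type*} [AddCommGroup W] [Module (ZMod q) W]
    (σ : G →* Module.End (ZMod q) W) (A : Subgroup G) (α : G → ℤˣ) : Submodule (ZMod q) W where
  carrier := {w | ∀ c ∈ A, σ c w = ((α c : ℤˣ) : ℤ) • w}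
  zero_mem' := by intro c _; simp
  add_mem' := by
    intro v w hv hw c hc
    rw [map_add, hv c hc, hw c hc, smul_add]
  smul_mem' := by
    intro t w hw c hc
    rw [map_smul, hw c hc, smul_comm]

theorem mem_wt {q : ℕ} {G : Type*} [Group G] {W : Type*} [AddCommGroup W] [Module (ZMod q) W]
    {σ : G →* Module.End (ZMod q) W} {A : Subgroup G} {α : G → ℤˣ} {w : W} :
    w ∈ wt σ A α ↔ ∀ c ∈ A, σ c w = ((α c : ℤˣ) : ℤ) • w := Iff.rfl

/-- the dimension of the weight space modulo the radical of the form `b` -/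
noncomputable def wdim {q : ℕ} [Fact q.Prime] {G : Type*} [Group G] {W : Type*} [AddCommGroup W]
    [Module (ZMod q) W] (σ : G →* Module.End (ZMod q) W) (A : Subgroup G) (α : G → ℤˣ)
    (b : W →ₗ[ZMod q] W →ₗ[ZMod q] ZMod q) : ℕ :=
  finrank (ZMod q) ((wt σ A α).map (LinearMap.ker b).mkQ)

/-- the linearized situation -/
structure WD (k q : ℕ) [Fact q.Prime] {G : Type u} [Group G] (Q R : Subgroup G) {W : Type u}
    [AddCommGroup W] [Module (ZMod q) W] (σ : G →* Module.End (ZMod q) W) {ι : Type u}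
    (b : ι → W →ₗ[ZMod q] W →ₗ[ZMod q] ZMod q) : Prop where
  q2 : q ≠ 2
  nontriv : ∃ w : W, w ≠ 0
  alt : ∀ i w, b i w w = 0
  nondeg : ∀ w, (∀ i w', b i w w' = 0) → w = 0
  trivQ : ∀ a ∈ Q, σ a = 1
  faithR : ∀ r ∈ R, σ r = 1 → r = 1
  expo : ∀ y : G, IsTwo y → y ^ 2 ^ (k + 1) = 1
  invR : ∀ r ∈ R, ∀ i w w', b i (σ r w) (σ r w') = b i w w'
  invz : ∀ y : G, IsTwo y → ∀ i w w', b i (σ (y ^ 2 ^ k) w) (σ (y ^ 2 ^ k) w') = b i w w'
  perm : ∀ (g : G) i, ∃ j, ∀ w w', b i (σ g w) (σ g w') = b j w w'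
  irr : ∀ A : Submodule (ZMod q) W, (∀ g, ∀ w ∈ A, σ g w ∈ A) → A = ⊥ ∨ A = ⊤
  fixR : ∀ w, (∀ r ∈ R, σ r w = w) → w = 0
  E1 : ∀ y : G, IsTwo y → ∀ A : Submodule (ZMod q) W, (∀ w ∈ A, σ y w ∈ A) →
    (∀ w ∈ A, ∀ w' ∈ A, ∀ i, b i w w' = 0) → ∀ w ∈ A, σ (y ^ 2 ^ k) w = w
  E2 : ∀ y : G, IsTwo y → ∀ i,
    finrank (ZMod q) ((LinearMap.range (σ (y ^ 2 ^ k) - 1)).map (LinearMap.ker (b i)).mkQ) ≤ 2

end Cfsg.Agent.H552
end

-- part: H979/TwoLenRA
section
/-!
# `R` elementary abelian (part RA of helper552's plan for S4258)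
-/

set_option autoImplicit false
set_option linter.unusedSectionVars false

universe u

namespace Cfsg.Agent.H979.TwoLenRA

open Cfsg.Agent.H552

section Signs

variable {q : ℕ} [Fact q.Prime] {W : Type*} [AddCommGroup W] [Module (ZMod q) W]

theorem two_ne (hq : q ≠ 2) : (2 : ZMod q) ≠ 0 := by
  intro h
  have h1 : ((2 : ℕ) : ZMod q) = 0 := by exact_mod_cast h
  rw [ZMod.natCast_eq_zero_iff] at h1
  exact hq ((Nat.prime_dvd_prime_iff_eq Fact.out Nat.prime_two).1 h1)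

theorem eq_zero_of_add_self (hq : q ≠ 2) {w : W} (h : w + w = 0) : w = 0 := by
  rw [← two_smul (ZMod q)] at h
  exact (smul_eq_zero.1 h).resolve_left (two_ne hq)

theorem eq_zero_of_neg_eq (hq : q ≠ 2) {w : W} (h : -w = w) : w = 0 :=
  eq_zero_of_add_self hq (by nth_rewrite 1 [← h]; exact neg_add_cancel w)

/-- different signs on a vector -/
theorem eq_zero_of_sign_ne (hq : q ≠ 2) {w : W} {ε δ : ℤˣ} (hne : ε ≠ δ)
    (h : (ε : ℤ) • w = (δ : ℤ) • w) : w = 0 := by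
  rcases Int.units_eq_one_or ε with rfl | rfl <;> rcases Int.units_eq_one_or δ with rfl | rfl
  · exact absurd rfl hne
  · exact eq_zero_of_neg_eq hq (by simpa using h.symm)
  · exact eq_zero_of_neg_eq hq (by simpa using h)
  · exact absurd rfl hne

end Signs

/-- a joint eigenvector of an elementary abelian `2`-group in an invariant subspace -/
theorem exists_weight {q : ℕ} [Fact q.Prime] (hq : q ≠ 2) {G : Type*} [Group G] {R : Subgroup G}
    (hRab : ∀ r ∈ R, ∀ s ∈ R, r * s = s * r) (hR2 : ∀ r ∈ R, r ^ 2 = 1)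
    {W : Type*} [AddCommGroup W] [Module (ZMod q) W] [Finite W] (σ : G →* Module.End (ZMod q) W)
    (U : Submodule (ZMod q) W) (hU : ∀ r ∈ R, ∀ w ∈ U, σ r w ∈ U) (hne : U ≠ ⊥) :
    ∃ α : G → ℤˣ, ∃ w ∈ U, w ≠ 0 ∧ w ∈ wt σ R α := by
  classical
  have hfin : Finite (Submodule (ZMod q) W) := by
    exact Finite.of_injective (fun S : Submodule (ZMod q) W => (S : Set W)) SetLike.coe_injective
  let 𝒮 : Set (Submodule (ZMod q) W) := {S | S ≤ U ∧ S ≠ ⊥ ∧ ∀ r ∈ R, ∀ w ∈ S, σ r w ∈ S}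
  obtain ⟨S, hS⟩ := (Set.toFinite 𝒮).exists_minimal ⟨U, le_rfl, hne, hU⟩
  obtain ⟨hSU, hS0, hSR⟩ := hS.1
  have hmin : ∀ T ∈ 𝒮, T ≤ S → T = S := fun T hT hTS => le_antisymm hTS (hS.2 hT hTS)
  have hcomm : ∀ r ∈ R, ∀ s ∈ R, ∀ w, σ r (σ s w) = σ s (σ r w) := by
    intro r hr s hs w
    rw [← Module.End.mul_apply, ← map_mul, hRab r hr s hs, map_mul, Module.End.mul_apply]
  -- each `r` is a sign on `S`
  have hsign : ∀ r ∈ R, (∀ w ∈ S, σ r w = w) ∨ (∀ w ∈ S, σ r w = -w) := by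
    intro r hr
    have hrr : ∀ w, σ r (σ r w) = w := by
      intro w
      rw [← Module.End.mul_apply, ← map_mul, ← pow_two, hR2 r hr, map_one, Module.End.one_apply]
    by_cases h : ∀ w ∈ S, σ r w = -w
    · exact Or.inr h
    · left
      push Not at h
      obtain ⟨w₀, hw₀, hne₀⟩ := h
      let T : Submodule (ZMod q) W := S ⊓ LinearMap.ker (σ r - 1)
      have hT : T ∈ 𝒮 := by
        refine ⟨inf_le_left.trans hSU, ?_, ?_⟩
        · intro hbot
          have h1 : w₀ + σ r w₀ ∈ T := by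
            refine ⟨add_mem hw₀ (hSR r hr _ hw₀), ?_⟩
            change (σ r - 1) (w₀ + σ r w₀) = 0
            rw [LinearMap.sub_apply, Module.End.one_apply, map_add, hrr]
            abel
          rw [hbot, Submodule.mem_bot] at h1
          exact hne₀ (eq_neg_of_add_eq_zero_right h1)
        · rintro s hs w ⟨hw, hw'⟩
          refine ⟨hSR s hs w hw, ?_⟩
          change (σ r - 1) (σ s w) = 0
          have h2 : (σ r - 1) w = 0 := hw'
          rw [LinearMap.sub_apply, Module.End.one_apply] at h2 ⊢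
          rw [hcomm r hr s hs, ← map_sub, h2, map_zero]
      have h2 := hmin T hT inf_le_left
      intro w hw
      rw [← h2] at hw
      have h3 : (σ r - 1) w = 0 := hw.2
      rw [LinearMap.sub_apply, Module.End.one_apply, sub_eq_zero] at h3
      exact h3
  obtain ⟨w, hw, hw0⟩ := Submodule.exists_mem_ne_zero_of_ne_bot hS0
  refine ⟨fun r => if ∀ w ∈ S, σ r w = w then 1 else -1, w, hSU hw, hw0, ?_⟩
  intro r hr
  show σ r w = (((if ∀ w ∈ S, σ r w = w then 1 else -1 : ℤˣ) : ℤˣ) : ℤ) • w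
  split_ifs with h
  · rw [h w hw]; simp
  · rw [((hsign r hr).resolve_left h) w hw]; simp

section RA

variable {k q : ℕ} [Fact q.Prime] {G : Type u} [Group G] [Finite G] {Q R : Subgroup G} {W : Type u}
  [AddCommGroup W] [Module (ZMod q) W] [Finite W] {σ : G →* Module.End (ZMod q) W} {ι : Type u}
  {b : ι → W →ₗ[ZMod q] W →ₗ[ZMod q] ZMod q}

/-- vectors of different weights are orthogonal -/
theorem orth_of_ne (h : WD k q Q R σ b) {α β : G → ℤˣ} {r : G} (hr : r ∈ R) (hne : α r ≠ β r) {a c : W}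
    (ha : σ r a = ((α r : ℤˣ) : ℤ) • a) (hc : σ r c = ((β r : ℤˣ) : ℤ) • c) (t : ι) : b t a c = 0 := by
  have h1 := h.invR r hr t a c
  rw [ha, hc] at h1
  have h2 : -(b t a c) = b t a c := by
    rcases Int.units_eq_one_or (α r) with h3 | h3 <;> rcases Int.units_eq_one_or (β r) with h4 | h4
    · exact absurd (h3.trans h4.symm) hne
    · rw [h3, h4] at h1; simpa using h1
    · rw [h3, h4] at h1; simpa using h1
    · exact absurd (h3.trans h4.symm) hne
  exact eq_zero_of_neg_eq (q := q) h.q2 h2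

theorem skew (h : WD k q Q R σ b) (t : ι) (a c : W) : b t a c = -(b t c a) := by
  have h1 := h.alt t (a + c)
  simp only [map_add, LinearMap.add_apply, h.alt, zero_add, add_zero] at h1
  exact eq_neg_of_add_eq_zero_left (by rw [add_comm]; exact h1)

/-- the use of `E1` : a vector with isotropic orbit is fixed by `y ^ 2 ^ k` -/
theorem fixed_of_orth (h : WD k q Q R σ b) {y : G} (hy : IsTwo y) {w : W}
    (horth : ∀ i j : ℕ, ∀ t, b t (σ (y ^ i) w) (σ (y ^ j) w) = 0) : σ (y ^ 2 ^ k) w = w := by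
  let A : Submodule (ZMod q) W := Submodule.span (ZMod q) (Set.range fun i : ℕ => σ (y ^ i) w)
  have hwA : w ∈ A := Submodule.subset_span ⟨0, by simp⟩
  refine h.E1 y hy A ?_ ?_ w hwA
  · intro v hv
    refine Submodule.span_induction (p := fun v _ => σ y v ∈ A) ?_ ?_ ?_ ?_ hv
    · rintro _ ⟨i, rfl⟩
      refine Submodule.subset_span ⟨i + 1, ?_⟩
      show σ (y ^ (i + 1)) w = σ y (σ (y ^ i) w)
      rw [pow_succ', map_mul, Module.End.mul_apply]
    · rw [map_zero]; exact zero_mem _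
    · intro a c _ _ ha hc
      rw [map_add]; exact add_mem ha hc
    · intro s a _ ha
      rw [map_smul]; exact A.smul_mem s ha
  · intro v hv v' hv' t
    refine Submodule.span_induction (p := fun v _ => b t v v' = 0) ?_ ?_ ?_ ?_ hv
    · rintro _ ⟨i, rfl⟩
      refine Submodule.span_induction (p := fun v' _ => b t (σ (y ^ i) w) v' = 0) ?_ ?_ ?_ ?_ hv'
      · rintro _ ⟨j, rfl⟩
        exact horth i j t
      · rw [map_zero]
      · intro a c _ _ ha hc
        rw [map_add, ha, hc, add_zero]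
      · intro s a _ ha
        rw [map_smul, ha, smul_zero]
    · rw [map_zero, LinearMap.zero_apply]
    · intro a c _ _ ha hc
      rw [map_add, LinearMap.add_apply, ha, hc, add_zero]
    · intro s a _ ha
      rw [map_smul, LinearMap.smul_apply, ha, smul_zero]

/-- `(m x) ^ n = w x ^ n` with `w ∈ R` -/
theorem exists_mul_pow {x m : G} (hxR : x ∈ Subgroup.normalizer (R : Set G)) (hm : m ∈ R) (n : ℕ) :
    ∃ w ∈ R, (m * x) ^ n = w * x ^ n := by
  induction n with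
  | zero => exact ⟨1, one_mem _, by simp⟩
  | succ n ih =>
    obtain ⟨w, hw, h⟩ := ih
    refine ⟨m * (x * w * x⁻¹), mul_mem hm ((Subgroup.mem_normalizer_iff.1 hxR w).1 hw), ?_⟩
    rw [pow_succ', h, pow_succ']
    group

/-- the stabilizer of a weight -/
def stab (R : Subgroup G) (α : G → ℤˣ) : Subgroup G where
  carrier := {g | g ∈ Subgroup.normalizer (R : Set G) ∧ ∀ r ∈ R, α (g⁻¹ * r * g) = α r}
  one_mem' := ⟨one_mem _, fun r _ => by simp⟩
  mul_mem' := by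
    rintro g g' ⟨hg, hg'⟩ ⟨hh, hh'⟩
    refine ⟨mul_mem hg hh, fun r hr => ?_⟩
    have e : (g * g')⁻¹ * r * (g * g') = g'⁻¹ * (g⁻¹ * r * g) * g' := by group
    have h1 : g⁻¹ * r * g ∈ R := by
      have := (Subgroup.mem_normalizer_iff.1 (inv_mem hg) r).1 hr
      simpa using this
    rw [e, hh' _ h1, hg' r hr]
  inv_mem' := by
    rintro g ⟨hg, hg'⟩
    refine ⟨inv_mem hg, fun r hr => ?_⟩
    have h1 : g * r * g⁻¹ ∈ R := (Subgroup.mem_normalizer_iff.1 hg r).1 hr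
    have h2 := hg' _ h1
    have e : g⁻¹ * (g * r * g⁻¹) * g = r := by group
    rw [e] at h2
    rw [inv_inv]
    exact h2.symm

theorem mem_stab {α : G → ℤˣ} {g : G} : g ∈ stab R α ↔
    g ∈ Subgroup.normalizer (R : Set G) ∧ ∀ r ∈ R, α (g⁻¹ * r * g) = α r := Iff.rfl

theorem mem_of_odd_pow {S : Subgroup G} {y : G} (hy : IsTwo y) {o : ℕ} (ho : Odd o) (h : y ^ o ∈ S) : y ∈ S := by
  obtain ⟨j, hj⟩ := isTwo_iff_orderOf.1 hy
  have hc : o.Coprime (orderOf y) := by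
    rw [hj]
    exact (Nat.Coprime.pow_left _ (Nat.coprime_two_left.2 ho)).symm
  obtain ⟨n, hn⟩ := exists_pow_eq_self_of_coprime hc
  rw [← hn]
  exact pow_mem h n

/-- the weight of the translate of a weight vector -/
theorem translate {α : G → ℤˣ} {w : W} (hw : w ∈ wt σ R α) {g : G} (hg : g ∈ Subgroup.normalizer (R : Set G))
    {r : G} (hr : r ∈ R) : σ r (σ g w) = ((α (g⁻¹ * r * g) : ℤˣ) : ℤ) • σ g w := by
  have h1 : g⁻¹ * r * g ∈ R := by
    have := (Subgroup.mem_normalizer_iff.1 (inv_mem hg) r).1 hr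
    simpa using this
  have h2 := hw _ h1
  rw [← map_zsmul, ← h2, ← Module.End.mul_apply, ← Module.End.mul_apply, ← map_mul, ← map_mul]
  congr 2
  group

/-- orthogonality of the translates of a weight vector -/
theorem orth_translate (h : WD k q Q R σ b) {α : G → ℤˣ} {w : W} (hw : w ∈ wt σ R α) {g g' : G}
    (hg : g ∈ Subgroup.normalizer (R : Set G)) (hg' : g' ∈ Subgroup.normalizer (R : Set G))
    (hne : g⁻¹ * g' ∉ stab R α) (t : ι) : b t (σ g w) (σ g' w) = 0 := by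
  have h1 : ∃ r ∈ R, α (g⁻¹ * r * g) ≠ α (g'⁻¹ * r * g') := by
    by_contra hcon
    push Not at hcon
    apply hne
    refine mem_stab.2 ⟨mul_mem (inv_mem hg) hg', fun r hr => ?_⟩
    have h2 : g * r * g⁻¹ ∈ R := (Subgroup.mem_normalizer_iff.1 hg r).1 hr
    have h3 := hcon _ h2
    have e1 : g⁻¹ * (g * r * g⁻¹) * g = r := by group
    have e2 : g'⁻¹ * (g * r * g⁻¹) * g' = (g⁻¹ * g')⁻¹ * r * (g⁻¹ * g') := by group
    rw [e1, e2] at h3
    exact h3.symm
  obtain ⟨r, hr, hrne⟩ := h1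
  exact orth_of_ne (α := fun r => α (g⁻¹ * r * g)) (β := fun r => α (g'⁻¹ * r * g')) h hr hrne
    (translate hw hg hr) (translate hw hg' hr) t

/-- orthogonality of all the translates under the powers of `y = m x` -/
theorem orth_all (h : WD k q Q R σ b) {α : G → ℤˣ} {w : W} (hw : w ∈ wt σ R α) {x m : G}
    (hxR : x ∈ Subgroup.normalizer (R : Set G)) (hm : m ∈ R)
    (hd : ∀ d : ℕ, x ^ d ∉ stab R α ∨ ∃ ε : ℤ, σ (x ^ d) w = ε • w) (i j : ℕ) (t : ι) :
    b t (σ ((m * x) ^ i) w) (σ ((m * x) ^ j) w) = 0 := by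
  have hxn : ∀ n : ℕ, x ^ n ∈ Subgroup.normalizer (R : Set G) := fun n => pow_mem hxR n
  -- reduction to `x`
  have hred : ∀ n : ℕ, ∃ ε : ℤ, σ ((m * x) ^ n) w = ε • σ (x ^ n) w := by
    intro n
    obtain ⟨v, hv, he⟩ := exists_mul_pow hxR hm n
    refine ⟨((α ((x ^ n)⁻¹ * v * x ^ n) : ℤˣ) : ℤ), ?_⟩
    rw [he, map_mul, Module.End.mul_apply]
    exact translate hw (hxn n) hv
  have hx' : ∀ i j : ℕ, i ≤ j → b t (σ (x ^ i) w) (σ (x ^ j) w) = 0 := by
    intro i j hij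
    obtain ⟨d, rfl⟩ := Nat.exists_eq_add_of_le hij
    rcases hd d with h1 | ⟨ε, h1⟩
    · apply orth_translate h hw (hxn i) (hxn _)
      rw [pow_add, inv_mul_cancel_left]
      exact h1
    · rw [pow_add, map_mul, Module.End.mul_apply, h1, map_zsmul, map_zsmul, h.alt, smul_zero]
  have hx : b t (σ (x ^ i) w) (σ (x ^ j) w) = 0 := by
    rcases le_total i j with h1 | h1
    · exact hx' i j h1
    · rw [skew h, hx' j i h1, neg_zero]
  obtain ⟨ε, hε⟩ := hred i
  obtain ⟨δ, hδ⟩ := hred j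
  rw [hε, hδ, map_zsmul, map_zsmul, LinearMap.smul_apply, hx, smul_zero, smul_zero]

/-- **Part RA of the plan for S4258.** -/
theorem caseRA (h : WD k q Q R σ b) (hk : 1 ≤ k) (hRab : ∀ r ∈ R, ∀ s ∈ R, r * s = s * r)
    (hR2 : ∀ r ∈ R, r ^ 2 = 1) {x m : G} (hx : IsTwo x) (hxR : x ∈ Subgroup.normalizer (R : Set G))
    (hm : m ∈ R) (hmx : IsTwo (m * x)) : (m * x) ^ 2 ^ k = x ^ 2 ^ k := by
  have hq := h.q2
  obtain ⟨v, hv, hve⟩ := exists_mul_pow hxR hm (2 ^ k)
  obtain ⟨v', hv', hve'⟩ := exists_mul_pow hxR hm (2 ^ (k - 1))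
  have hpow : 2 ^ k = 2 ^ (k - 1) + 2 ^ (k - 1) := by
    rw [← two_mul, ← pow_succ']
    congr 1
    omega
  set u := x ^ 2 ^ (k - 1) with hu
  have huu : x ^ 2 ^ k = u * u := by rw [hpow, pow_add]
  have hun : u ∈ Subgroup.normalizer (R : Set G) := pow_mem hxR _
  have hvv : v = v' * (u * v' * u⁻¹) := by
    have h1 : (m * x) ^ 2 ^ k = (m * x) ^ 2 ^ (k - 1) * (m * x) ^ 2 ^ (k - 1) := by rw [hpow, pow_add]
    rw [hve, hve', huu] at h1
    have h2 : v = (v' * u * (v' * u)) * (u * u)⁻¹ := by rw [← h1]; group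
    rw [h2]; group
  by_contra hne
  have hv1 : v ≠ 1 := by
    rintro rfl
    exact hne (by rw [hve, one_mul])
  -- a weight with `α v = -1`
  have hσv : σ v ≠ 1 := fun h1 => hv1 (h.faithR v hv h1)
  have hvv2 : ∀ w, σ v (σ v w) = w := by
    intro w
    rw [← Module.End.mul_apply, ← map_mul, ← pow_two, hR2 v hv, map_one, Module.End.one_apply]
  obtain ⟨a, ha⟩ : ∃ a, σ v a ≠ a := by
    by_contra hcon
    push Not at hcon
    exact hσv (LinearMap.ext hcon)
  let U : Submodule (ZMod q) W := LinearMap.ker (σ v + 1)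
  have hUmem : ∀ w, w ∈ U ↔ σ v w = -w := by
    intro w
    change (σ v + 1) w = 0 ↔ _
    rw [LinearMap.add_apply, Module.End.one_apply, add_eq_zero_iff_eq_neg]
  have hU0 : U ≠ ⊥ := by
    intro hbot
    have h1 : σ v a - a ∈ U := by
      rw [hUmem, map_sub, hvv2]; abel
    rw [hbot, Submodule.mem_bot, sub_eq_zero] at h1
    exact ha h1
  have hUR : ∀ r ∈ R, ∀ w ∈ U, σ r w ∈ U := by
    intro r hr w hw
    rw [hUmem] at hw ⊢
    rw [← Module.End.mul_apply, ← map_mul, hRab v hv r hr, map_mul, Module.End.mul_apply, hw, map_neg]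
  obtain ⟨α, w₁, hw₁U, hw₁0, hw₁⟩ := exists_weight hq hRab hR2 σ U hUR hU0
  have hαv : α v = -1 := by
    rcases Int.units_eq_one_or (α v) with h1 | h1
    · exfalso
      have h2 := hw₁ v hv
      rw [(hUmem w₁).1 hw₁U, h1, Units.val_one, one_smul] at h2
      exact hw₁0 (eq_zero_of_neg_eq hq h2)
    · exact h1
  have hmul : ∀ r ∈ R, ∀ s ∈ R, α (r * s) = α r * α s := by
    intro r hr s hs
    by_contra hcon
    have h1 := hw₁ (r * s) (mul_mem hr hs)
    rw [map_mul, Module.End.mul_apply, hw₁ s hs, map_zsmul, hw₁ r hr, smul_smul, mul_comm, ← Units.val_mul] at h1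
    exact hw₁0 (eq_zero_of_sign_ne hq (Ne.symm hcon) h1)
  -- `u` moves the weight
  have hu' : u ∉ stab R α := by
    intro hst
    have h1 : u * v' * u⁻¹ ∈ R := (Subgroup.mem_normalizer_iff.1 hun v').1 hv'
    have h2 := (mem_stab.1 hst).2 _ h1
    have e : u⁻¹ * (u * v' * u⁻¹) * u = v' := by group
    rw [e] at h2
    rw [hvv, hmul _ hv' _ h1, ← h2] at hαv
    rcases Int.units_eq_one_or (α v') with h3 | h3 <;> rw [h3] at hαv <;> exact absurd hαv (by decide)
  have hstab : ∀ j, j < k → x ^ 2 ^ j ∉ stab R α := by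
    intro j hj hmem
    apply hu'
    obtain ⟨l, hl⟩ : ∃ l, k - 1 = j + l := ⟨k - 1 - j, by omega⟩
    rw [hu, hl, pow_add, pow_mul]
    exact pow_mem hmem _
  have hz2 : x ^ 2 ^ (k + 1) = 1 := h.expo x hx
  by_cases hz : x ^ 2 ^ k ∈ stab R α
  · -- case (b)
    have hzw : ∀ w ∈ wt σ R α, σ (x ^ 2 ^ k) w ∈ wt σ R α := by
      intro w hw r hr
      rw [translate hw (mem_stab.1 hz).1 hr, (mem_stab.1 hz).2 r hr]
    have hzz : ∀ w, σ (x ^ 2 ^ k) (σ (x ^ 2 ^ k) w) = w := by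
      intro w
      rw [← Module.End.mul_apply, ← map_mul, ← pow_add, ← two_mul, ← pow_succ', hz2, map_one, Module.End.one_apply]
    have hev : ∃ w ∈ wt σ R α, w ≠ 0 ∧ (σ (x ^ 2 ^ k) w = w ∨ σ (x ^ 2 ^ k) w = -w) := by
      by_cases h1 : w₁ + σ (x ^ 2 ^ k) w₁ = 0
      · exact ⟨w₁, hw₁, hw₁0, Or.inr (eq_neg_of_add_eq_zero_right h1)⟩
      · refine ⟨_, add_mem hw₁ (hzw _ hw₁), h1, Or.inl ?_⟩
        rw [map_add, hzz, add_comm]
    obtain ⟨w, hw, hw0, hwe⟩ := hev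
    have hd : ∀ d : ℕ, x ^ d ∉ stab R α ∨ ∃ ε : ℤ, σ (x ^ d) w = ε • w := by
      intro d
      rcases Nat.eq_zero_or_pos d with rfl | hdpos
      · right; exact ⟨1, by simp⟩
      obtain ⟨j, o, ho, hjo⟩ := Nat.exists_eq_two_pow_mul_odd hdpos.ne'
      rcases Nat.lt_or_ge j k with hj | hj
      · left
        intro hmem
        rw [hjo, pow_mul] at hmem
        exact hstab j hj (mem_of_odd_pow (hx.pow _) ho hmem)
      · right
        obtain ⟨l, rfl⟩ := Nat.exists_eq_add_of_le hj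
        have h1 : ∀ n : ℕ, ∃ ε : ℤ, σ ((x ^ 2 ^ k) ^ n) w = ε • w := by
          intro n
          induction n with
          | zero => exact ⟨1, by simp⟩
          | succ n ih =>
            obtain ⟨ε, hε⟩ := ih
            rcases hwe with h2 | h2
            · exact ⟨ε, by rw [pow_succ, map_mul, Module.End.mul_apply, h2, hε]⟩
            · exact ⟨-ε, by rw [pow_succ, map_mul, Module.End.mul_apply, h2, map_neg, hε, neg_smul]⟩
        rw [hjo, pow_add, mul_assoc, pow_mul]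
        exact h1 _
    rcases hwe with h2 | h2
    · -- use `m x`
      have h3 := fixed_of_orth h hmx (w := w) (fun i j t => orth_all h hw hxR hm hd i j t)
      rw [hve, map_mul, Module.End.mul_apply, h2, hw v hv, hαv] at h3
      exact hw0 (eq_zero_of_neg_eq hq (by simpa using h3))
    · have h3 := fixed_of_orth h hx (w := w) (fun i j t => by
        have := orth_all h hw hxR (one_mem R) hd i j t
        rwa [one_mul] at this)
      rw [h2] at h3
      exact hw0 (eq_zero_of_neg_eq hq h3)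
  · -- case (a)
    have hd : ∀ d : ℕ, x ^ d ∉ stab R α ∨ ∃ ε : ℤ, σ (x ^ d) w₁ = ε • w₁ := by
      intro d
      rcases Nat.eq_zero_or_pos d with rfl | hdpos
      · right; exact ⟨1, by simp⟩
      obtain ⟨j, o, ho, hjo⟩ := Nat.exists_eq_two_pow_mul_odd hdpos.ne'
      rcases Nat.lt_or_ge k j with hj | hj
      · right
        refine ⟨1, ?_⟩
        obtain ⟨l, rfl⟩ := Nat.exists_eq_add_of_le (Nat.succ_le_of_lt hj)
        rw [hjo, Nat.succ_eq_add_one, pow_add, mul_assoc, pow_mul, hz2, one_pow]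
        simp
      · left
        intro hmem
        rw [hjo, pow_mul] at hmem
        have h1 := mem_of_odd_pow (hx.pow _) ho hmem
        apply hz
        obtain ⟨l, rfl⟩ := Nat.exists_eq_add_of_le hj
        rw [pow_add, pow_mul]
        exact pow_mem h1 _
    have h3 := fixed_of_orth h hx (w := w₁) (fun i j t => by
      have := orth_all h hw₁ hxR (one_mem R) hd i j t
      rwa [one_mul] at this)
    have hzn : x ^ 2 ^ k ∈ Subgroup.normalizer (R : Set G) := pow_mem hxR _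
    apply hz
    refine mem_stab.2 ⟨hzn, fun r hr => ?_⟩
    by_contra hcon
    have h4 := translate hw₁ hzn hr
    rw [h3, hw₁ r hr] at h4
    exact hw₁0 (eq_zero_of_sign_ne hq (Ne.symm hcon) h4)

end RA

end Cfsg.Agent.H979.TwoLenRA
end

-- part: H557/CoreDim
section
/-!
helper557: part C of the proof of S4258 (helper552): the radical of the commutator form.

* `step` : restriction to a subspace with independent translates;
* `pow_eq` : `q ^ k + 1 = 2 ^ a` implies `k ≤ 1`;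
* `core_dim` : **the radical of the form has index `1` or `q ^ 2`**.
-/

set_option autoImplicit false
set_option linter.unusedSectionVars false

namespace Cfsg.Agent.H557.CoreDim

open Module Cfsg.Agent.PLocal.HHBLinear Cfsg.Agent.PLocal.HHBJordan

/-! ### arithmetic -/

theorem pow_eq {q k a : ℕ} (hq : q.Prime) (hq2 : q ≠ 2) (h : q ^ k + 1 = 2 ^ a) : k ≤ 1 := by
  by_contra hk
  push Not at hk
  have hodd : Odd q := hq.odd_of_ne_two hq2
  have hq3 : 3 ≤ q := by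
    have := hq.two_le
    omega
  rcases Nat.even_or_odd k with hke | hko
  · obtain ⟨j, rfl⟩ := hke
    have h1 : q ^ (j + j) % 4 = 1 := by
      have h2 : Odd (q ^ j) := hodd.pow
      rw [pow_add, Nat.mul_mod]
      have h3 : q ^ j % 4 = 1 ∨ q ^ j % 4 = 3 := by
        rcases h2 with ⟨m, hm⟩
        omega
      rcases h3 with h3 | h3 <;> rw [h3]
    have ha : a ≤ 1 := by
      by_contra ha
      obtain ⟨b, rfl⟩ : ∃ b, a = b + 2 := ⟨a - 2, by omega⟩
      have : 2 ^ (b + 2) = 4 * 2 ^ b := by ring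
      omega
    have h4 : 3 ^ 2 ≤ q ^ (j + j) := (Nat.pow_le_pow_left hq3 2).trans (Nat.pow_le_pow_right (by omega) (by omega))
    have h5 : 2 ^ a ≤ 2 ^ 1 := Nat.pow_le_pow_right (by norm_num) ha
    omega
  · have hdvd : q + 1 ∣ 2 ^ a := by
      rw [← h]
      have := hko.nat_add_dvd_pow_add_pow q 1
      rwa [one_pow] at this
    obtain ⟨b, hb, hqb⟩ := (Nat.dvd_prime_pow Nat.prime_two).1 hdvd
    have hb1 : 1 ≤ b := by
      rcases Nat.eq_zero_or_pos b with h0 | h0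
      · rw [h0] at hqb; omega
      · exact h0
    have hlt : q ^ 1 < q ^ k := Nat.pow_lt_pow_right (by omega) hk
    rw [pow_one] at hlt
    have hba : b < a := by
      have : 2 ^ b < 2 ^ a := by rw [← h, ← hqb]; omega
      exact (Nat.pow_lt_pow_iff_right (by norm_num)).1 this
    obtain ⟨j, rfl⟩ := hko
    have hmod : q * q ≡ 1 [MOD 2 ^ (b + 1)] := by
      have hqb' : q = 2 ^ b - 1 := by omega
      have h2b : 1 ≤ 2 ^ b := Nat.one_le_two_pow
      have h3 : q * q + 2 ^ (b + 1) = 2 ^ (b + 1) * 2 ^ (b - 1) + 1 := by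
        obtain ⟨c, rfl⟩ : ∃ c, b = c + 1 := ⟨b - 1, by omega⟩
        rw [Nat.add_sub_cancel]
        have h4 : q + 1 = 2 * 2 ^ c := by rw [hqb]; ring
        have h5 : 2 ^ (c + 1 + 1) = 4 * 2 ^ c := by ring
        rw [h5]
        obtain ⟨w, hw⟩ : ∃ w, w = 2 ^ c := ⟨_, rfl⟩
        rw [← hw] at h4 ⊢
        have h6 : q = 2 * w - 1 := by omega
        obtain ⟨w', rfl⟩ : ∃ w', w = w' + 1 := ⟨w - 1, by omega⟩
        have h7 : q = 2 * w' + 1 := by omega
        rw [h7]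
        ring
      have h4 : q * q + 2 ^ (b + 1) ≡ 1 [MOD 2 ^ (b + 1)] := by
        rw [h3]
        simp
      have h5 : q * q + 2 ^ (b + 1) ≡ q * q [MOD 2 ^ (b + 1)] := by
        simp [Nat.ModEq]
      exact h5.symm.trans h4
    have hmod2 : q ^ (2 * j + 1) + 1 ≡ q + 1 [MOD 2 ^ (b + 1)] := by
      have h5 : (q * q) ^ j ≡ 1 ^ j [MOD 2 ^ (b + 1)] := hmod.pow j
      have h6 := (h5.mul_right q).add_right 1
      rw [one_pow, one_mul] at h6
      have h7 : q ^ (2 * j + 1) = (q * q) ^ j * q := by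
        rw [pow_succ, pow_mul, pow_two]
      rw [h7]
      exact h6
    have h8 : 2 ^ (b + 1) ∣ 2 ^ b := by
      have h9 : 2 ^ (b + 1) ∣ q ^ (2 * j + 1) + 1 := by
        rw [h]; exact pow_dvd_pow 2 hba
      have h10 := (Nat.ModEq.dvd_iff hmod2 dvd_rfl).1 h9
      rwa [hqb] at h10
    have h11 := (Nat.pow_dvd_pow_iff_le_right (by norm_num : 1 < 2)).1 h8
    omega

/-! ### restriction -/

section Restrict

variable {K : Type*} [Field K] [CharP K 2] {V : Type*} [AddCommGroup V] [Module K V]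

theorem sum_pow (X : Module.End K V) (s a : ℕ) :
    ∑ i ∈ Finset.range (2 ^ (s + a)), X ^ i =
      ∑ i ∈ Finset.range (2 ^ s), X ^ i * ∑ j ∈ Finset.range (2 ^ a), (X ^ 2 ^ s) ^ j := by
  rw [pow_add, mul_comm (2 ^ s) (2 ^ a)]
  generalize 2 ^ s = m
  generalize 2 ^ a = n
  induction n with
  | zero => simp
  | succ n ih =>
    rw [Nat.succ_mul, Finset.sum_range_add, ih]
    simp_rw [Finset.sum_range_succ, mul_add]
    rw [Finset.sum_add_distrib]
    congr 1
    refine Finset.sum_congr rfl fun i _ => ?_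
    rw [← pow_mul, ← pow_add, mul_comm n m, add_comm]

/-- restriction to a subspace with independent translates -/
theorem step {X : Module.End K V} {e : ℕ} (hX : (X - 1) ^ (2 ^ e - 1) = 0) {s : ℕ} (hs : s ≤ e)
    {U : Submodule K V} (hU : U ≠ ⊥) (hst : ∀ u ∈ U, (X ^ 2 ^ s) u ∈ U)
    (hind : ∀ u ∈ U, ∑ i ∈ Finset.range (2 ^ s), (X ^ i) u = 0 → u = 0) :
    s < e ∧ ((X ^ 2 ^ s).restrict hst - 1) ^ (2 ^ (e - s) - 1) = 0 := by
  have : Fact (Nat.Prime 2) := ⟨Nat.prime_two⟩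
  have h0 : ∑ i ∈ Finset.range (2 ^ e), X ^ i = 0 := by
    rw [Cfsg.Agent.PLocal.HHBUnip.geom_eq K 2, hX]
  constructor
  · refine lt_of_le_of_ne hs ?_
    rintro rfl
    obtain ⟨u, hu, hu0⟩ := Submodule.exists_mem_ne_zero_of_ne_bot hU
    apply hu0
    apply hind u hu
    rw [← LinearMap.sum_apply, h0, LinearMap.zero_apply]
  · rw [← Cfsg.Agent.PLocal.HHBUnip.geom_eq K 2]
    have hpow : ∀ (j : ℕ) (u : U), ((((X ^ 2 ^ s).restrict hst) ^ j) u : V) = ((X ^ 2 ^ s) ^ j) u := by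
      intro j
      induction j with
      | zero => intro u; simp
      | succ j ih =>
        intro u
        rw [pow_succ', Module.End.mul_apply, LinearMap.coe_restrict_apply, ih, pow_succ', Module.End.mul_apply]
    ext u
    rw [LinearMap.sum_apply, LinearMap.zero_apply, ZeroMemClass.coe_zero, AddSubmonoidClass.coe_finsetSum]
    apply hind
    · refine U.sum_mem fun j _ => ?_
      exact Submodule.coe_mem _
    · have h1 := LinearMap.congr_fun (sum_pow X s (e - s)) (u : V)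
      rw [Nat.add_sub_cancel' hs, h0, LinearMap.zero_apply] at h1
      rw [h1, LinearMap.sum_apply]
      refine Finset.sum_congr rfl fun i _ => ?_
      rw [Module.End.mul_apply, LinearMap.sum_apply]
      congr 1
      exact Finset.sum_congr rfl fun j _ => hpow j u

/-- the representation on an invariant subspace -/
def subRep {E : Type*} [Group E] (ρ : E →* Module.End K V) (U : Submodule K V) (hU : ∀ h, ∀ u ∈ U, ρ h u ∈ U) :
    E →* Module.End K U where
  toFun h := (ρ h).restrict (hU h)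
  map_one' := by ext u; simp
  map_mul' := by intro a b; ext u; simp [LinearMap.restrict_apply]

theorem coe_subRep {E : Type*} [Group E] (ρ : E →* Module.End K V) (U : Submodule K V)
    (hU : ∀ h, ∀ u ∈ U, ρ h u ∈ U) (h : E) (u : U) : (subRep ρ U hU h u : V) = ρ h u := rfl

end Restrict

section Main

variable {K : Type*} [Field K] [IsAlgClosed K] [CharP K 2] {V : Type*} [AddCommGroup V] [Module K V]
  [FiniteDimensional K V] [Nontrivial V] {E : Type*} [Group E] [Finite E] {q : ℕ} [Fact q.Prime]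

/-- **the radical of the commutator form has index `1` or `q ^ 2`** -/
theorem core_dim (hE : IsPGroup q E) (hq : q ≠ 2) {ρ : E →* Module.End K V} {κ : E → E → K}
    (hκ : CommScalar ρ κ) {X : (Module.End K V)ˣ} {σ : MulAut E}
    (hX : ∀ h, (X : Module.End K V) * ρ h = ρ (σ h) * X) {e : ℕ} (he : 1 ≤ e)
    (hX0 : ((X : Module.End K V) - 1) ^ (2 ^ e - 1) = 0) (hσ : σ ^ 2 ^ e = 1)
    (hgen : Subgroup.closure {z : E | ∃ h : E, z = (σ ^ 2 ^ (e - 1)) h * h⁻¹} = ⊤) (hne : ∃ h, ρ h ≠ 1) :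
    hκ.rad.index = 1 ∨ hκ.rad.index = q ^ 2 := by
  classical
  have : Fact (Nat.Prime 2) := ⟨Nat.prime_two⟩
  have hqp : q.Prime := Fact.out
  have : CharP (Module.End K V) 2 := charP_of_injective_algebraMap (algebraMap K (Module.End K V)).injective 2
  let _ : Fintype E := Fintype.ofFinite E
  obtain ⟨N, hN⟩ := IsPGroup.iff_card.1 hE
  have hcard : (Fintype.card E : K) ≠ 0 := by
    rw [← Nat.card_eq_fintype_card, hN]
    intro h0
    rw [CharP.cast_eq_zero_iff K 2] at h0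
    exact hq ((Nat.prime_dvd_prime_iff_eq Nat.prime_two hqp).1 (Nat.prime_two.dvd_of_dvd_pow h0)).symm
  have hXe : X ^ 2 ^ e = 1 := by
    apply Units.ext
    have h1 : ((X : Module.End K V) - 1) ^ 2 ^ e = 0 := by
      have h2 : 2 ^ e = (2 ^ e - 1) + 1 := (Nat.sub_add_cancel Nat.one_le_two_pow).symm
      rw [h2, pow_succ, hX0, zero_mul]
    rw [sub_pow_char_pow_of_commute _ _ (Commute.one_right _), one_pow] at h1
    rw [Units.val_pow_eq_pow_val, Units.val_one]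
    exact sub_eq_zero.1 h1
  obtain ⟨s, hs, U, hU, hUρ, hirr, ⟨h₁, u₁, hu₁, hne₁⟩, hUX, hind⟩ := Cfsg.Agent.PLocal.HHBClifford.clifford
    (p := 2) (by rwa [Nat.card_eq_fintype_card]) ρ X σ hX e hXe hne
  obtain ⟨hse, hY0⟩ := step hX0 hs hU hUX hind
  set a := e - s with ha
  have ha1 : 1 ≤ a := by omega
  have : Nontrivial U := Submodule.nontrivial_iff_ne_bot.2 hU
  have : CharP (Module.End K U) 2 := charP_of_injective_algebraMap (algebraMap K (Module.End K U)).injective 2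
  have hYa : (((X : Module.End K V) ^ 2 ^ s).restrict hUX) ^ 2 ^ a = 1 := by
    have h1 : (((X : Module.End K V) ^ 2 ^ s).restrict hUX - 1) ^ 2 ^ a = 0 := by
      have h2 : 2 ^ a = (2 ^ a - 1) + 1 := (Nat.sub_add_cancel Nat.one_le_two_pow).symm
      rw [h2, pow_succ, hY0, zero_mul]
    rw [sub_pow_char_pow_of_commute _ _ (Commute.one_right _), one_pow] at h1
    exact sub_eq_zero.1 h1
  obtain ⟨Y, hY⟩ : ∃ Y : (Module.End K U)ˣ, (Y : Module.End K U) = ((X : Module.End K V) ^ 2 ^ s).restrict hUX :=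
    IsUnit.of_pow_eq_one hYa (pow_pos (by norm_num) a).ne'
  let ρU := subRep ρ U hUρ
  have hκU : CommScalar ρU κ := ⟨fun b c => by
    ext u
    exact LinearMap.congr_fun (hκ.comm b c) (u : V)⟩
  have hirrU : IsIrr ρU := by
    intro S hS
    have h1 := hirr (S.map U.subtype) (by rintro _ ⟨u, _, rfl⟩; exact u.2) (by
      rintro h _ ⟨u, hu, rfl⟩
      exact ⟨ρU h u, hS h u hu, rfl⟩)
    rcases h1 with h1 | h1
    · left
      exact Submodule.map_injective_of_injective U.injective_subtype (h1.trans (Submodule.map_bot _).symm)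
    · right
      rw [eq_top_iff]
      intro u _
      have h2 : (u : V) ∈ S.map U.subtype := by rw [h1]; exact u.2
      obtain ⟨w, hw, e⟩ := h2
      rwa [← Subtype.ext e]
  have hXpow : ∀ m : ℕ, ∀ h, ((X : Module.End K V) ^ m) * ρ h = ρ ((σ ^ m) h) * ((X : Module.End K V) ^ m) := by
    intro m
    induction m with
    | zero => intro h; simp
    | succ m ih =>
      intro h
      rw [pow_succ', mul_assoc, ih, ← mul_assoc, hX, pow_succ', MulAut.mul_apply, mul_assoc]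
  have hYρ : ∀ h, (Y : Module.End K U) * ρU h = ρU ((σ ^ 2 ^ s) h) * Y := by
    intro h
    ext u
    rw [hY]
    exact LinearMap.congr_fun (hXpow (2 ^ s) h) (u : V)
  have hσa : (σ ^ 2 ^ s) ^ 2 ^ a = 1 := by
    rw [← pow_mul, ← pow_add, ha, Nat.add_sub_cancel' hs, hσ]
  have hpowe : (σ ^ 2 ^ s) ^ 2 ^ (a - 1) = σ ^ 2 ^ (e - 1) := by
    rw [← pow_mul, ← pow_add]
    congr 2
    omega
  have hgen' : Subgroup.closure {z : E | ∃ h : E, z = ((σ ^ 2 ^ s) ^ 2 ^ (a - 1)) h * h⁻¹} = ⊤ := by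
    rw [hpowe]; exact hgen
  have hD : Decomp Y (2 ^ a) := fun T hT => hκU.exists_trace hirrU hcard hYρ ha1 hσa hgen' hT
  have hY1 : (Y : Module.End K U) - 1 ≠ 0 := by
    intro h0
    have h1 : (Y : Module.End K U) = 1 := sub_eq_zero.1 h0
    have h2 : ∀ h, ρU ((σ ^ 2 ^ s) h) = ρU h := by
      intro h
      have := hYρ h
      rw [h1, one_mul, mul_one] at this
      exact this.symm
    have h3 : ∀ (j : ℕ) (h : E), ρU (((σ ^ 2 ^ s) ^ j) h) = ρU h := by
      intro j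
      induction j with
      | zero => intro h; simp
      | succ j ih => intro h; rw [pow_succ', MulAut.mul_apply, h2, ih]
    have h4 : ρU.ker = ⊤ := by
      rw [eq_top_iff, ← hgen', Subgroup.closure_le]
      rintro _ ⟨h, rfl⟩
      show ρU _ = 1
      rw [map_mul, h3, ← map_mul, mul_inv_cancel, map_one]
    have h5 : ρU h₁ = 1 := by
      have : h₁ ∈ ρU.ker := by rw [h4]; trivial
      exact this
    apply hne₁
    have h6 := LinearMap.congr_fun h5 ⟨u₁, hu₁⟩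
    exact congrArg Subtype.val h6
  have hYY : ((Y : Module.End K U) - 1) ^ (2 ^ a - 1) = 0 := by rw [hY]; exact hY0
  have hdim := finrank_eq_of_decomp 2 a ha1 hD hY1 hYY
  have hsq := Cfsg.Agent.PLocal.HHBFinrankSq.finrank_sq hcard hκU hirrU
  have hrad : hκU.rad = hκ.rad := rfl
  rw [hrad] at hsq
  have hdvd : finrank K U ∣ q ^ N := by
    rw [← hN]
    refine (Dvd.intro_left (finrank K U) ?_).trans (Subgroup.index_dvd_card hκ.rad)
    rw [← hsq, pow_two]
  obtain ⟨k, hk, hqk⟩ := (Nat.dvd_prime_pow hqp).1 hdvd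
  have hk1 : k ≤ 1 := by
    refine pow_eq (a := a) hqp hq ?_
    rw [← hqk, hdim]
    exact Nat.sub_add_cancel Nat.one_le_two_pow
  rw [← hsq, hqk]
  interval_cases k
  · left; simp
  · right; simp

end Main

end Cfsg.Agent.H557.CoreDim
end

-- part: H557/E2
section
/-!
helper557: part C of the proof of S4258 (helper552), second half.

* `weights_indep` : weight vectors of distinct weights are independent;
* `E2` : **the radical of the commutator form of a weight has index `1` or `q ^ 2` in `[Q, z] S`**.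
-/

set_option autoImplicit false
set_option linter.unusedSectionVars false

namespace Cfsg.Agent.H557.PartC

open scoped commutatorElement

open Module Cfsg.Agent.PLocal.HHBLinear Cfsg.Agent.PLocal.HHBJordan Cfsg.Agent.H557.CoreDim

theorem weights_indep {K : Type*} [Field K] {V : Type*} [AddCommGroup V] [Module K V] {Z : Type*} [Group Z]
    (ρ : Z →* Module.End K V) (χ : ℕ → Z →* Kˣ) (n : ℕ) : ∀ (v : ℕ → V),
    (∀ i < n, ∀ j < n, χ i = χ j → i = j) → (∀ i < n, ∀ c, ρ c (v i) = (χ i c : K) • v i) →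
    ∑ i ∈ Finset.range n, v i = 0 → ∀ i < n, v i = 0 := by
  induction n with
  | zero => intro v _ _ _ i hi; exact absurd hi (Nat.not_lt_zero i)
  | succ n ih =>
    intro v hχ hv hsum
    have h1 : ∀ c : Z, ∑ i ∈ Finset.range n, (((χ i c : Kˣ) : K) - ((χ n c : Kˣ) : K)) • v i = 0 := by
      intro c
      have h2 := congrArg (ρ c) hsum
      rw [map_sum, map_zero, Finset.sum_range_succ, hv n (Nat.lt_succ_self n) c,
        Finset.sum_congr rfl fun i hi => hv i ((Finset.mem_range.1 hi).trans (Nat.lt_succ_self n)) c] at h2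
      rw [Finset.sum_range_succ] at hsum
      have h3 : v n = -∑ i ∈ Finset.range n, v i := (neg_eq_of_add_eq_zero_right hsum).symm
      rw [h3, smul_neg, Finset.smul_sum, ← sub_eq_add_neg, ← Finset.sum_sub_distrib] at h2
      rw [← h2]
      exact Finset.sum_congr rfl fun i _ => sub_smul _ _ _
    have h2 : ∀ i < n, v i = 0 := by
      intro i hi
      have hne : χ i ≠ χ n := fun h => by
        have := hχ i (hi.trans (Nat.lt_succ_self n)) n (Nat.lt_succ_self n) h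
        omega
      obtain ⟨c, hc⟩ := DFunLike.ne_iff.1 hne
      have h3 := ih (fun i => (((χ i c : Kˣ) : K) - ((χ n c : Kˣ) : K)) • v i)
        (fun i hi j hj => hχ i (hi.trans (Nat.lt_succ_self n)) j (hj.trans (Nat.lt_succ_self n)))
        (fun i hi d => by rw [map_smul, hv i (hi.trans (Nat.lt_succ_self n)) d, smul_comm]) (h1 c) i hi
      exact (smul_eq_zero.1 h3).resolve_left (sub_ne_zero.2 fun h => hc (Units.ext h))
    intro i hi
    rcases Nat.lt_succ_iff_lt_or_eq.1 hi with h3 | h3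
    · exact h2 i h3
    · subst h3
      rw [Finset.sum_range_succ, Finset.sum_eq_zero fun j hj => h2 j (Finset.mem_range.1 hj), zero_add] at hsum
      exact hsum

/-! ### group theory -/

section Groups

variable {G : Type*} [Group G] [Finite G] {q : ℕ} [Fact q.Prime] {Q Z : Subgroup G}

/-- an element of odd order inverted by `z` is the square of such an element -/
theorem exists_sqrt {t : G} (ht : Odd (orderOf t)) : ∃ k : ℕ, t ^ k * t ^ k = t := by
  obtain ⟨m, hm⟩ := ht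
  refine ⟨m + 1, ?_⟩
  rw [← pow_add, show m + 1 + (m + 1) = (2 * m + 1) + 1 by ring, pow_succ, ← hm, pow_orderOf_eq_one, one_mul]

theorem odd_order (hQ : IsPGroup q Q) (hq : q ≠ 2) {t : G} (ht : t ∈ Q) : Odd (orderOf t) := by
  obtain ⟨k, hk⟩ := hQ ⟨t, ht⟩
  have h1 : t ^ q ^ k = 1 := congrArg Subtype.val hk
  exact (((Fact.out : q.Prime).odd_of_ne_two hq).pow).of_dvd_nat (orderOf_dvd_of_pow_eq_one h1)

variable {z : G}

theorem commutator_eq (hz : z * z = 1) :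
    ⁅Q, Subgroup.zpowers z⁆ = Subgroup.closure {t | ∃ h ∈ Q, t = h * z * h⁻¹ * z⁻¹} := by
  apply le_antisymm
  · rw [Subgroup.commutator_le]
    rintro h hh _ ⟨k, rfl⟩
    rcases Int.even_or_odd' k with ⟨j, rfl | rfl⟩
    · have h1 : z ^ (2 * j) = 1 := by rw [zpow_mul, zpow_two, hz, one_zpow]
      simp only [h1, commutatorElement_one_right]
      exact Subgroup.one_mem _
    · have h1 : z ^ (2 * j + 1) = z := by rw [zpow_add, zpow_mul, zpow_two, hz, one_zpow, one_mul, zpow_one]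
      simp only [h1]
      exact Subgroup.subset_closure ⟨h, hh, rfl⟩
  · rw [Subgroup.closure_le]
    rintro _ ⟨h, hh, rfl⟩
    exact Subgroup.commutator_mem_commutator hh (Subgroup.mem_zpowers z)

theorem conj_gen (hz : z * z = 1) (h : G) :
    z * (h * z * h⁻¹ * z⁻¹) * z⁻¹ = (h * z * h⁻¹ * z⁻¹)⁻¹ := by
  have h1 : z⁻¹ = z := inv_eq_of_mul_eq_one_left hz
  simp only [mul_inv_rev, inv_inv, h1, mul_assoc]
  rw [hz, mul_one]

theorem comm_le (hz : z * z = 1) (hzQ : ∀ a ∈ Q, z * a * z⁻¹ ∈ Q) : ⁅Q, Subgroup.zpowers z⁆ ≤ Q := by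
  rw [commutator_eq hz, Subgroup.closure_le]
  rintro _ ⟨h, hh, rfl⟩
  have h1 : h * z * h⁻¹ * z⁻¹ = h * (z * h⁻¹ * z⁻¹) := by group
  show h * z * h⁻¹ * z⁻¹ ∈ Q
  rw [h1]
  exact Q.mul_mem hh (hzQ _ (Q.inv_mem hh))

/-- `[E, z] = E` -/
theorem comm_comm (hQ : IsPGroup q Q) (hq : q ≠ 2) (hz : z * z = 1) (hzQ : ∀ a ∈ Q, z * a * z⁻¹ ∈ Q)
    {H : Subgroup G} (hH : ∀ h ∈ ⁅Q, Subgroup.zpowers z⁆, z * h * z⁻¹ * h⁻¹ ∈ H) : ⁅Q, Subgroup.zpowers z⁆ ≤ H := by
  have hle := comm_le hz hzQ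
  rw [commutator_eq hz] at hH hle ⊢
  rw [Subgroup.closure_le]
  rintro _ ⟨h, hh, rfl⟩
  set t := h * z * h⁻¹ * z⁻¹ with ht
  have htE : t ∈ Subgroup.closure {t | ∃ h ∈ Q, t = h * z * h⁻¹ * z⁻¹} := Subgroup.subset_closure ⟨h, hh, rfl⟩
  have h1 := hH t htE
  rw [conj_gen hz h] at h1
  obtain ⟨k, hk⟩ := exists_sqrt (odd_order hQ hq (hle htE))
  have h2 : t = ((t⁻¹ * t⁻¹) ^ k)⁻¹ := by
    conv_lhs => rw [← hk]
    rw [← inv_pow, mul_inv_rev, inv_inv, ← pow_add, ← pow_two, ← pow_mul, two_mul]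
  show t ∈ H
  rw [h2]
  exact H.inv_mem (H.pow_mem h1 k)

/-- `Q = E C_Q(z)` -/
theorem exists_decomp (hQ : IsPGroup q Q) (hq : q ≠ 2) (hz : z * z = 1) (hzQ : ∀ a ∈ Q, z * a * z⁻¹ ∈ Q)
    {b : G} (hb : b ∈ Q) : ∃ r ∈ ⁅Q, Subgroup.zpowers z⁆, ∃ c ∈ Q, z * c = c * z ∧ b = r * c := by
  have hle := comm_le hz hzQ
  have hz1 : z⁻¹ = z := inv_eq_of_mul_eq_one_left hz
  set t := z * b * z⁻¹ * b⁻¹ with ht
  have htE : t ∈ ⁅Q, Subgroup.zpowers z⁆ := by
    rw [Subgroup.commutator_comm]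
    exact Subgroup.commutator_mem_commutator (Subgroup.mem_zpowers z) hb
  have hinv : z * t * z⁻¹ = t⁻¹ := by
    rw [ht]
    simp only [mul_inv_rev, inv_inv, hz1, mul_assoc]
    rw [← mul_assoc z z, hz, one_mul]
  obtain ⟨k, hk⟩ := exists_sqrt (odd_order hQ hq (hle htE))
  have hr : z * t ^ k * z⁻¹ = (t ^ k)⁻¹ := by rw [← conj_pow, hinv, inv_pow]
  refine ⟨(t ^ k)⁻¹, Subgroup.inv_mem _ (Subgroup.pow_mem _ htE k), t ^ k * b,
    Q.mul_mem (hle (Subgroup.pow_mem _ htE k)) hb, ?_, by rw [inv_mul_cancel_left]⟩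
  have h1 : z * b * z⁻¹ = t * b := by rw [ht]; group
  have h2 : z * (t ^ k * b) * z⁻¹ = t ^ k * b := by
    have h3 : z * (t ^ k * b) * z⁻¹ = (z * t ^ k * z⁻¹) * (z * b * z⁻¹) := by group
    rw [h3, hr, h1, ← mul_assoc, inv_mul_eq_iff_eq_mul.2 hk.symm]
  exact mul_inv_eq_iff_eq_mul.1 h2

/-- `C_Q(z)` centralizes `E` -/
theorem cent_comm (hz : z * z = 1) (hzQ : ∀ a ∈ Q, z * a * z⁻¹ ∈ Q) (hcen : ∀ c ∈ Z, ∀ a ∈ Q, c * a = a * c)
    (hcomm : ∀ a ∈ Q, ∀ b ∈ Q, ⁅a, b⁆ ∈ Z) (hzZ : ∀ c ∈ Z, z * c = c * z) {c : G} (hc : c ∈ Q)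
    (hcz : z * c = c * z) {t : G} (ht : t ∈ ⁅Q, Subgroup.zpowers z⁆) : c * t = t * c := by
  have hle := comm_le hz hzQ
  rw [commutator_eq hz] at ht hle
  refine Subgroup.closure_induction (p := fun t _ => c * t = t * c) ?_ ?_ ?_ ?_ ht
  · rintro _ ⟨h, hh, rfl⟩
    have h1 : c * h = ⁅c, h⁆ * (h * c) := by rw [commutatorElement_def]; group
    have hk := hcomm c hc h hh
    set k := ⁅c, h⁆ with hkdef
    set t := h * z * h⁻¹ * z⁻¹ with ht'
    have htQ : t ∈ Q := hle (Subgroup.subset_closure ⟨h, hh, rfl⟩)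
    have h2 : c * h * c⁻¹ = k * h := by rw [h1]; group
    have h3 : c * z * c⁻¹ = z := by rw [← hcz]; group
    have h4 : c * t * c⁻¹ = t := by
      have h5 : c * t * c⁻¹ = (c * h * c⁻¹) * (c * z * c⁻¹) * (c * h * c⁻¹)⁻¹ * (c * z * c⁻¹)⁻¹ := by
        rw [ht']; group
      rw [h5, h2, h3, mul_inv_rev]
      have h6 : k⁻¹ * z⁻¹ = z⁻¹ * k⁻¹ := by
        rw [← mul_inv_rev, ← mul_inv_rev, hzZ k hk]
      have h7 : k * h * z * (h⁻¹ * k⁻¹) * z⁻¹ = k * (h * z * h⁻¹ * z⁻¹) * k⁻¹ := by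
        simp only [mul_assoc]
        rw [h6]
      rw [h7, ← ht', hcen k hk t htQ, mul_inv_cancel_right]
    exact mul_inv_eq_iff_eq_mul.1 h4
  · rw [mul_one, one_mul]
  · intro a b _ _ ha hb
    rw [← mul_assoc, ha, mul_assoc, hb, mul_assoc]
  · intro a _ ha
    exact (Commute.inv_right (show Commute c a from ha)).eq

end Groups

/-! ### the faithful case -/

section Faithful

variable {K : Type*} [Field K] [IsAlgClosed K] [CharP K 2] {V : Type*} [AddCommGroup V] [Module K V]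
  [FiniteDimensional K V] {G : Type*} [Group G] [Finite G] (ρ : G →* Module.End K V) {y : G} {e q : ℕ}
  [Fact q.Prime] {Q Z : Subgroup G}

/-- the weight space -/
def wsp (μ : Z →* Kˣ) : Submodule K V where
  carrier := {v | ∀ c : Z, ρ c v = (μ c : K) • v}
  add_mem' {a b} ha hb c := by rw [map_add, ha, hb, smul_add]
  zero_mem' c := by rw [map_zero, smul_zero]
  smul_mem' a v hv c := by rw [map_smul, hv, smul_comm]

theorem mem_wsp {μ : Z →* Kˣ} {v : V} : v ∈ wsp ρ μ ↔ ∀ c : Z, ρ c v = (μ c : K) • v := Iff.rfl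

theorem E2_faithful (hinj : Function.Injective ρ) (hq : q ≠ 2) (he : 1 ≤ e) (hy : (ρ y - 1) ^ (2 ^ e - 1) = 0)
    (hQ : IsPGroup q Q) (hZQ : Z ≤ Q) (hcen : ∀ c ∈ Z, ∀ a ∈ Q, c * a = a * c)
    (hcomm : ∀ a ∈ Q, ∀ b ∈ Q, ⁅a, b⁆ ∈ Z) (hyQ : y ∈ Subgroup.normalizer (Q : Set G))
    (hyZ : y ∈ Subgroup.normalizer (Z : Set G)) (hzZ : ∀ c ∈ Z, y ^ 2 ^ (e - 1) * c = c * y ^ 2 ^ (e - 1))
    (μ : Z →* Kˣ) {v : V} (hv0 : v ≠ 0) (hv : ∀ c : Z, ρ c v = (μ c : K) • v) {S : Subgroup G}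
    (hS : ∀ a, a ∈ S ↔ a ∈ Q ∧ ∀ b ∈ Q, ∀ h : ⁅a, b⁆ ∈ Z, μ ⟨⁅a, b⁆, h⟩ = 1) :
    S.relIndex (⁅Q, Subgroup.zpowers (y ^ 2 ^ (e - 1))⁆ ⊔ S) = 1 ∨
      S.relIndex (⁅Q, Subgroup.zpowers (y ^ 2 ^ (e - 1))⁆ ⊔ S) = q ^ 2 := by
  classical
  set z := y ^ 2 ^ (e - 1) with hzdef
  have hye : y ^ 2 ^ e = 1 := by
    apply hinj
    rw [map_pow, map_one, pow_eq_one hy]
  have hz : z * z = 1 := by
    rw [hzdef, ← pow_add, ← two_mul, ← pow_succ', Nat.sub_add_cancel he, hye]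
  have hyQ' : ∀ a ∈ Q, y * a * y⁻¹ ∈ Q := fun a ha => (Subgroup.mem_normalizer_iff.1 hyQ a).1 ha
  have hyQp : ∀ (k : ℕ), ∀ a ∈ Q, y ^ k * a * (y ^ k)⁻¹ ∈ Q := fun k a ha =>
    (Subgroup.mem_normalizer_iff.1 (Subgroup.pow_mem _ hyQ k) a).1 ha
  have hzQ : ∀ a ∈ Q, z * a * z⁻¹ ∈ Q := hyQp _
  set E := ⁅Q, Subgroup.zpowers z⁆ with hE
  have hEQ : E ≤ Q := comm_le hz hzQ
  have hSQ : S ≤ Q := fun a ha => ((hS a).1 ha).1
  have hZS : Z ≤ S := fun c hc => (hS c).2 ⟨hZQ hc, fun b hb h => by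
    have h1 : ⁅c, b⁆ = 1 := commutatorElement_eq_one_iff_mul_comm.2 (hcen c hc b hb)
    have h2 : (⟨⁅c, b⁆, h⟩ : Z) = 1 := Subtype.ext h1
    rw [h2, map_one]⟩
  -- the relative index
  have hrel : S.relIndex (E ⊔ S) = S.relIndex E := by
    have hN : (S.subgroupOf Q).Normal := by
      refine ⟨?_⟩
      rintro ⟨a, ha⟩ haS ⟨g, hg⟩
      rw [Subgroup.mem_subgroupOf] at haS ⊢
      show g * a * g⁻¹ ∈ S
      have h1 : g * a * g⁻¹ = ⁅g, a⁆ * a := by rw [commutatorElement_def]; group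
      rw [h1]
      exact S.mul_mem (hZS (hcomm g hg a ha)) haS
    rw [← Subgroup.relIndex_subgroupOf (sup_le hEQ hSQ), Subgroup.subgroupOf_sup hEQ hSQ,
      Subgroup.relIndex_sup_right, Subgroup.relIndex_subgroupOf hEQ]
  rw [hrel]
  -- `y` normalizes `E`
  have hyz : y * z * y⁻¹ = z := by rw [hzdef, ← pow_succ', pow_succ, mul_inv_cancel_right]
  have hyE : y ∈ Subgroup.normalizer (E : Set G) := by
    have key : ∀ w : G, (∀ a ∈ Q, w * a * w⁻¹ ∈ Q) → w * z * w⁻¹ = z → ∀ a ∈ E, w * a * w⁻¹ ∈ E := by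
      intro w hwQ hwz a ha
      rw [hE, commutator_eq hz] at ha ⊢
      refine Subgroup.closure_induction (p := fun a _ => w * a * w⁻¹ ∈ _) ?_ ?_ ?_ ?_ ha
      · rintro _ ⟨h, hh, rfl⟩
        refine Subgroup.subset_closure ⟨w * h * w⁻¹, hwQ h hh, ?_⟩
        have h1 : w * (h * z * h⁻¹ * z⁻¹) * w⁻¹ =
            (w * h * w⁻¹) * (w * z * w⁻¹) * (w * h * w⁻¹)⁻¹ * (w * z * w⁻¹)⁻¹ := by group
        rw [h1, hwz]
      · rw [mul_one, mul_inv_cancel]; exact Subgroup.one_mem _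
      · intro a b _ _ ha hb
        have h1 : w * (a * b) * w⁻¹ = (w * a * w⁻¹) * (w * b * w⁻¹) := by group
        rw [h1]; exact Subgroup.mul_mem _ ha hb
      · intro a _ ha
        have h1 : w * a⁻¹ * w⁻¹ = (w * a * w⁻¹)⁻¹ := by group
        rw [h1]; exact Subgroup.inv_mem _ ha
    have hy1 : ∀ a ∈ Q, y⁻¹ * a * y⁻¹⁻¹ ∈ Q := fun a ha =>
      (Subgroup.mem_normalizer_iff.1 (Subgroup.inv_mem _ hyQ) a).1 ha
    rw [Subgroup.mem_normalizer_iff]
    refine fun a => ⟨key y hyQ' hyz a, fun ha => ?_⟩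
    have h1 := key y⁻¹ hy1 (by
      have h2 : y⁻¹ * z * y⁻¹⁻¹ = y⁻¹ * (y * z * y⁻¹) * y := by rw [hyz, inv_inv]
      rw [h2]; group) _ ha
    have h2 : y⁻¹ * (y * a * y⁻¹) * y⁻¹⁻¹ = a := by group
    rwa [h2] at h1
  have hEp : IsPGroup q E := hQ.to_le hEQ
  -- the automorphism of `E`
  let ξ : Subgroup.normalizer (E : Set G) := ⟨y, hyE⟩
  let σ : MulAut E := E.normalizerMonoidHom ξ
  have hσ : ∀ (k : ℕ) (h : E), (((σ ^ k) h : E) : G) = y ^ k * h * (y ^ k)⁻¹ := by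
    intro k h
    have h1 : σ ^ k = E.normalizerMonoidHom (ξ ^ k) := (map_pow _ _ _).symm
    rw [h1]
    rfl
  -- the automorphism of `Z`
  let ζ : Subgroup.normalizer (Z : Set G) := ⟨y, hyZ⟩
  let θ : MulAut Z := Z.normalizerMonoidHom ζ
  have hθ : ∀ (k : ℕ) (h : Z), (((θ ^ k) h : Z) : G) = y ^ k * h * (y ^ k)⁻¹ := by
    intro k h
    have h1 : θ ^ k = Z.normalizerMonoidHom (ζ ^ k) := (map_pow _ _ _).symm
    rw [h1]
    rfl
  let F : (Z →* Kˣ) → (Z →* Kˣ) := fun χ => χ.comp (θ⁻¹ : MulAut Z).toMonoidHom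
  have hF : ∀ (k : ℕ) (χ : Z →* Kˣ) (c : Z), (F^[k] χ) ((θ ^ k) c) = χ c := by
    intro k
    induction k with
    | zero => intro χ c; rfl
    | succ k ih =>
      intro χ c
      rw [Function.iterate_succ_apply, pow_succ, MulAut.mul_apply, ih]
      show χ (θ⁻¹ (θ c)) = χ c
      rw [MulAut.inv_apply_self]
  have hwt : ∀ (k : ℕ) (u : V), u ∈ wsp ρ μ → ∀ c : Z, ρ c (((ρ y) ^ k) u) = ((F^[k] μ c : Kˣ) : K) • ((ρ y) ^ k) u := by
    intro k u hu c
    obtain ⟨d, rfl⟩ := (θ ^ k).surjective c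
    rw [hF, ← map_smul, ← hu d]
    have h1 : ρ (((θ ^ k) d : Z) : G) * ρ y ^ k = ρ y ^ k * ρ (d : G) := by
      rw [← map_pow ρ y k, ← map_mul, ← map_mul, hθ]
      congr 1
      group
    exact LinearMap.congr_fun h1 u
  have hper : Function.IsPeriodicPt F (2 ^ (e - 1)) μ := by
    show F^[2 ^ (e - 1)] μ = μ
    ext c
    obtain ⟨d, rfl⟩ := (θ ^ 2 ^ (e - 1)).surjective c
    rw [hF]
    congr 2
    apply Subtype.ext
    rw [hθ, hzZ d d.2, mul_inv_cancel_right]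
  obtain ⟨s, hs, hms⟩ := (Nat.dvd_prime_pow Nat.prime_two).1 hper.minimalPeriod_dvd
  have hFs : F^[2 ^ s] μ = μ := by
    rw [← hms]; exact Function.iterate_minimalPeriod
  have hFinj : Set.InjOn (fun i => F^[i] μ) (Set.Iio (2 ^ s)) := by
    rw [← hms]; exact Function.iterate_injOn_Iio_minimalPeriod
  have hW0 : wsp ρ μ ≠ ⊥ := fun h => hv0 (by
    have : v ∈ wsp ρ μ := hv
    rw [h] at this
    exact this)
  have hst : ∀ u ∈ wsp ρ μ, ((ρ y) ^ 2 ^ s) u ∈ wsp ρ μ := by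
    intro u hu c
    have h1 := hwt (2 ^ s) u hu c
    rwa [hFs] at h1
  obtain ⟨hse, hY0⟩ := step hy (s := s) (by omega) hW0 hst (by
    intro u hu h0
    have h1 := weights_indep (ρ.comp Z.subtype) (fun i => F^[i] μ) (2 ^ s) (fun i => ((ρ y) ^ i) u)
      (fun i hi j hj h => hFinj hi hj h) (fun i _ c => hwt i u hu c) h0 0 (Nat.two_pow_pos s)
    simpa using h1)
  have hnt : Nontrivial (wsp ρ μ) := Submodule.nontrivial_iff_ne_bot.2 hW0
  -- the representation of `E`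
  have hEinv : ∀ h : E, ∀ u ∈ wsp ρ μ, (ρ.comp E.subtype) h u ∈ wsp ρ μ := by
    intro h u hu c
    show ρ (c : G) (ρ (h : G) u) = _ • ρ (h : G) u
    rw [← map_smul, ← hu c, ← Module.End.mul_apply, ← Module.End.mul_apply, ← map_mul, ← map_mul,
      hcen c c.2 h (hEQ h.2)]
  let ρE := subRep (ρ.comp E.subtype) (wsp ρ μ) hEinv
  let κ : E → E → K := fun a b => ((μ ⟨⁅(a : G), (b : G)⁆, hcomm a (hEQ a.2) b (hEQ b.2)⟩ : Kˣ) : K)
  have hκ : CommScalar ρE κ := ⟨fun a b => by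
    ext u
    show ρ (a : G) (ρ (b : G) (u : V)) = κ a b • ρ (b : G) (ρ (a : G) (u : V))
    have h1 : (a : G) * b = (b * a) * ⁅(a : G)⁻¹, (b : G)⁻¹⁆ := by rw [commutatorElement_def]; group
    have h2 : (a : G) * b = ⁅(a : G), (b : G)⁆ * (b * a) := by rw [commutatorElement_def]; group
    have h3 := hcomm a (hEQ a.2) b (hEQ b.2)
    have h4 : (a : G) * b = (b * a) * ⁅(a : G), (b : G)⁆ := by
      rw [← hcen _ h3 _ (Q.mul_mem (hEQ b.2) (hEQ a.2))]; exact h2
    rw [← Module.End.mul_apply, ← map_mul, h4, map_mul, Module.End.mul_apply, u.2 ⟨_, h3⟩, map_smul, map_mul,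
      Module.End.mul_apply]⟩
  have hrad : hκ.rad = S.subgroupOf E := by
    ext u
    rw [hκ.mem_rad, Subgroup.mem_subgroupOf, hS]
    constructor
    · intro h
      refine ⟨hEQ u.2, fun b hb hc => ?_⟩
      obtain ⟨r, hr, c, hc1, hcz, rfl⟩ := exists_decomp hQ hq hz hzQ hb
      have h1 : (u : G) * c = c * u := (cent_comm hz hzQ hcen hcomm hzZ hc1 hcz u.2).symm
      have h2 : ⁅(u : G), r * c⁆ = ⁅r, (u : G)⁆⁻¹ := by
        rw [commutatorElement_def, commutatorElement_def, mul_inv_rev]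
        have h3 : (u : G) * (r * c) * (u : G)⁻¹ * (c⁻¹ * r⁻¹) = u * r * (c * (u : G)⁻¹ * c⁻¹) * r⁻¹ := by group
        have h4 : c * (u : G)⁻¹ * c⁻¹ = (u : G)⁻¹ := by
          have h5 : Commute (u : G) c := h1
          rw [← h5.inv_left.eq, mul_inv_cancel_right]
        rw [h3, h4]; group
      have h6 := h ⟨r, hr⟩
      have h7 : (μ ⟨⁅r, (u : G)⁆, hcomm r (hEQ hr) u (hEQ u.2)⟩ : Kˣ) = 1 := Units.ext h6
      have h8 : (⟨⁅(u : G), r * c⁆, hc⟩ : Z) = (⟨⁅r, (u : G)⁆, hcomm r (hEQ hr) u (hEQ u.2)⟩ : Z)⁻¹ :=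
        Subtype.ext h2
      rw [h8, map_inv, h7, inv_one]
    · rintro ⟨-, h⟩ a
      show ((μ ⟨⁅(a : G), (u : G)⁆, _⟩ : Kˣ) : K) = 1
      have h1 := h a (hEQ a.2) (hcomm u (hEQ u.2) a (hEQ a.2))
      have h2 : (⟨⁅(a : G), (u : G)⁆, hcomm a (hEQ a.2) u (hEQ u.2)⟩ : Z) =
          (⟨⁅(u : G), (a : G)⁆, hcomm u (hEQ u.2) a (hEQ a.2)⟩ : Z)⁻¹ :=
        Subtype.ext (commutatorElement_inv _ _).symm
      rw [h2, map_inv, h1, inv_one, Units.val_one]
  have hidx : S.relIndex E = hκ.rad.index := by rw [hrad]; rfl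
  rw [hidx]
  by_cases hne : ∃ h, ρE h ≠ 1
  · -- the operator
    have hsum : s + (e - s) = e := by omega
    have hYa : ((ρ y ^ 2 ^ s).restrict hst) ^ 2 ^ (e - s) = 1 := pow_eq_one hY0
    obtain ⟨Y, hY⟩ : ∃ Y : (Module.End K (wsp ρ μ))ˣ, (Y : Module.End K (wsp ρ μ)) = (ρ y ^ 2 ^ s).restrict hst :=
      IsUnit.of_pow_eq_one hYa (pow_pos (by norm_num) _).ne'
    refine core_dim hEp hq hκ (X := Y) (σ := σ ^ 2 ^ s) ?_ (e := e - s) (by omega) (by rw [hY]; exact hY0) ?_ ?_ hne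
    · intro h
      rw [hY]
      ext u
      show ((ρ y ^ 2 ^ s) (ρ (h : G) (u : V))) = ρ (((σ ^ 2 ^ s) h : E) : G) ((ρ y ^ 2 ^ s) (u : V))
      have h1 : ρ y ^ 2 ^ s * ρ (h : G) = ρ (((σ ^ 2 ^ s) h : E) : G) * ρ y ^ 2 ^ s := by
        rw [hσ, ← map_pow ρ y, ← map_mul, ← map_mul]
        congr 1
        group
      exact LinearMap.congr_fun h1 u
    · rw [← pow_mul, ← pow_add, hsum]
      ext h
      rw [hσ, hye, one_mul, inv_one, mul_one]
      rfl
    · have hpow : (σ ^ 2 ^ s) ^ 2 ^ (e - s - 1) = σ ^ 2 ^ (e - 1) := by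
        rw [← pow_mul, ← pow_add]
        congr 2
        omega
      rw [hpow]
      set H := Subgroup.closure {w : E | ∃ h : E, w = (σ ^ 2 ^ (e - 1)) h * h⁻¹} with hH
      have h1 : E ≤ H.map E.subtype := by
        refine comm_comm hQ hq hz hzQ fun h hh => ?_
        refine ⟨(σ ^ 2 ^ (e - 1)) ⟨h, hh⟩ * ⟨h, hh⟩⁻¹, Subgroup.subset_closure ⟨⟨h, hh⟩, rfl⟩, ?_⟩
        rw [Subgroup.subtype_apply, Subgroup.coe_mul, hσ]
        rfl
      rw [eq_top_iff]
      rintro ⟨h, hh⟩ -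
      obtain ⟨w, hw, e1⟩ := h1 hh
      have : w = ⟨h, hh⟩ := Subtype.ext e1
      rwa [← this]
  · push Not at hne
    left
    rw [Subgroup.index_eq_one, eq_top_iff]
    intro u _ h
    have h1 := hκ.comm h u
    rw [hne, hne, one_mul] at h1
    exact (scal_inj ρE (1 : E) (by rw [map_one, one_smul]; exact h1)).symm

/-- **part C, (E2)** -/
theorem E2 (hq : q ≠ 2) (he : 1 ≤ e) (hy : (ρ y - 1) ^ (2 ^ e - 1) = 0)
    (hQ : IsPGroup q Q) (hZQ : Z ≤ Q) (hcen : ∀ c ∈ Z, ∀ a ∈ Q, c * a = a * c)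
    (hcomm : ∀ a ∈ Q, ∀ b ∈ Q, ⁅a, b⁆ ∈ Z) (hyQ : y ∈ Subgroup.normalizer (Q : Set G))
    (hyZ : y ∈ Subgroup.normalizer (Z : Set G)) (hzZ : ∀ c ∈ Z, y ^ 2 ^ (e - 1) * c = c * y ^ 2 ^ (e - 1))
    (μ : Z →* Kˣ) {v : V} (hv0 : v ≠ 0) (hv : ∀ c : Z, ρ c v = (μ c : K) • v) {S : Subgroup G}
    (hS : ∀ a, a ∈ S ↔ a ∈ Q ∧ ∀ b ∈ Q, ∀ h : ⁅a, b⁆ ∈ Z, μ ⟨⁅a, b⁆, h⟩ = 1) :
    S.relIndex (⁅Q, Subgroup.zpowers (y ^ 2 ^ (e - 1))⁆ ⊔ S) = 1 ∨
      S.relIndex (⁅Q, Subgroup.zpowers (y ^ 2 ^ (e - 1))⁆ ⊔ S) = q ^ 2 := by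
  classical
  let π : G →* G ⧸ ρ.ker := QuotientGroup.mk' ρ.ker
  let ρ' : (G ⧸ ρ.ker) →* Module.End K V := QuotientGroup.lift ρ.ker ρ (fun x hx => hx)
  have hρ' : ∀ g : G, ρ' (π g) = ρ g := fun g => rfl
  have hker : ∀ g : G, π g = 1 ↔ ρ g = 1 := fun g => QuotientGroup.eq_one_iff g
  have hinj : Function.Injective ρ' := by
    rw [injective_iff_map_eq_one]
    intro x hx
    obtain ⟨g, rfl⟩ := QuotientGroup.mk'_surjective ρ.ker x
    exact (hker g).2 hx
  have hmem : ∀ (H : Subgroup G), y ∈ Subgroup.normalizer (H : Set G) →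
      π y ∈ Subgroup.normalizer ((H.map π : Subgroup (G ⧸ ρ.ker)) : Set (G ⧸ ρ.ker)) := by
    intro H hH
    rw [Subgroup.mem_normalizer_iff]
    intro x
    constructor
    · rintro ⟨a, ha, rfl⟩
      exact ⟨y * a * y⁻¹, (Subgroup.mem_normalizer_iff.1 hH a).1 ha, by simp [map_mul]⟩
    · rintro ⟨a, ha, e1⟩
      refine ⟨y⁻¹ * a * y⁻¹⁻¹, (Subgroup.mem_normalizer_iff.1 (Subgroup.inv_mem _ hH) a).1 ha, ?_⟩
      rw [map_mul, map_mul, e1, inv_inv, map_inv]
      group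
  -- the weight
  have hv' : ∀ c : Z.map π, ∃ a : K, ρ' c v = a • v := by
    rintro ⟨_, c, hc, rfl⟩
    exact ⟨_, hv ⟨c, hc⟩⟩
  obtain ⟨μ', hμ'⟩ := exists_hom (ρ'.comp (Z.map π).subtype) hv0 hv'
  have hμμ : ∀ (c : G) (hc : c ∈ Z) (h : π c ∈ Z.map π), μ' ⟨π c, h⟩ = μ ⟨c, hc⟩ := by
    intro c hc h
    apply Units.ext
    have h1 := hμ' ⟨π c, h⟩
    have h2 := hv ⟨c, hc⟩
    exact smul_left_injective K hv0 (h1.symm.trans h2)
  have hcommπ : ∀ a b : G, ⁅π a, π b⁆ = π ⁅a, b⁆ := fun a b => (map_commutatorElement π a b).symm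
  have hS' : ∀ a, a ∈ S.map π ↔ a ∈ Q.map π ∧ ∀ b ∈ Q.map π, ∀ h : ⁅a, b⁆ ∈ Z.map π, μ' ⟨⁅a, b⁆, h⟩ = 1 := by
    intro a'
    constructor
    · rintro ⟨a, ha, rfl⟩
      refine ⟨⟨a, ((hS a).1 ha).1, rfl⟩, ?_⟩
      rintro _ ⟨b, hb, rfl⟩ h
      have hab := hcomm a ((hS a).1 ha).1 b hb
      have h1 := hμμ ⁅a, b⁆ hab (by rw [← hcommπ]; exact h)
      rw [((hS a).1 ha).2 b hb hab] at h1
      rw [← h1]
      congr 1
    · rintro ⟨⟨a, ha, rfl⟩, h⟩
      refine ⟨a, (hS a).2 ⟨ha, fun b hb hab => ?_⟩, rfl⟩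
      have h1 := h (π b) ⟨b, hb, rfl⟩ (by rw [hcommπ]; exact ⟨_, hab, rfl⟩)
      rw [← hμμ ⁅a, b⁆ hab ⟨_, hab, rfl⟩, ← h1]
      congr 1
  have key := E2_faithful ρ' hinj hq he (y := π y) (by rw [hρ']; exact hy) (hQ.map π) (Subgroup.map_mono hZQ)
    (by
      rintro _ ⟨c, hc, rfl⟩ _ ⟨a, ha, rfl⟩
      rw [← map_mul, hcen c hc a ha, map_mul])
    (by
      rintro _ ⟨a, ha, rfl⟩ _ ⟨b, hb, rfl⟩
      exact ⟨_, hcomm a ha b hb, map_commutatorElement π a b⟩)
    (hmem Q hyQ) (hmem Z hyZ)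
    (by
      rintro _ ⟨c, hc, rfl⟩
      rw [← map_pow, ← map_mul, hzZ c hc, map_mul])
    μ' hv0 hμ' hS'
  have hEQ : ⁅Q, Subgroup.zpowers (y ^ 2 ^ (e - 1))⁆ ≤ Q := by
    rw [Subgroup.commutator_le]
    intro a ha g hg
    have hgN : g ∈ Subgroup.normalizer (Q : Set G) :=
      (Subgroup.zpowers_le.2 (Subgroup.pow_mem _ hyQ _)) hg
    have h1 : ⁅a, g⁆ = a * (g * a⁻¹ * g⁻¹) := by rw [commutatorElement_def]; group
    rw [h1]
    exact Q.mul_mem ha ((Subgroup.mem_normalizer_iff.1 hgN a⁻¹).1 (Q.inv_mem ha))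
  have hSQ : S ≤ Q := fun a ha => ((hS a).1 ha).1
  have hL : (⁅Q, Subgroup.zpowers (y ^ 2 ^ (e - 1))⁆ ⊔ S).map π =
      ⁅Q.map π, Subgroup.zpowers ((π y) ^ 2 ^ (e - 1))⁆ ⊔ S.map π := by
    rw [Subgroup.map_sup, Subgroup.map_commutator, MonoidHom.map_zpowers, map_pow]
  have hrel : (S.map π).relIndex (⁅Q.map π, Subgroup.zpowers ((π y) ^ 2 ^ (e - 1))⁆ ⊔ S.map π) =
      S.relIndex (⁅Q, Subgroup.zpowers (y ^ 2 ^ (e - 1))⁆ ⊔ S) := by
    rw [← hL, ← Subgroup.relIndex_comap]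
    set L := ⁅Q, Subgroup.zpowers (y ^ 2 ^ (e - 1))⁆ ⊔ S with hLdef
    have hLQ : L ≤ Q := sup_le hEQ hSQ
    have h1 : (S.map π).comap π ⊓ L = S ⊓ L := by
      ext x
      constructor
      · rintro ⟨⟨s, hs, e1⟩, hx⟩
        refine ⟨?_, hx⟩
        have hk : s⁻¹ * x ∈ S := by
          refine (hS _).2 ⟨Q.mul_mem (Q.inv_mem (hSQ hs)) (hLQ hx), fun b hb h => ?_⟩
          have h2 : π (s⁻¹ * x) = 1 := by rw [map_mul, map_inv, e1, inv_mul_cancel]
          have h3 : ρ ⁅s⁻¹ * x, b⁆ = 1 := by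
            rw [← hker, map_commutatorElement, h2, commutatorElement_one_left]
          have h4 := hv ⟨_, h⟩
          rw [h3, Module.End.one_apply] at h4
          apply Units.ext
          refine (smul_left_injective K hv0 ?_).symm
          show ((1 : Kˣ) : K) • v = _
          rw [Units.val_one, one_smul]
          exact h4
        have h5 := S.mul_mem hs hk
        rwa [mul_inv_cancel_left] at h5
      · rintro ⟨hx, hx'⟩
        exact ⟨⟨x, hx, rfl⟩, hx'⟩
    rw [← Subgroup.inf_relIndex_right, h1, Subgroup.inf_relIndex_right]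
  rw [hrel] at key
  exact key

end Faithful

end Cfsg.Agent.H557.PartC
end

-- part: H557/PartW1
section
/-!
# Part W of S4258: the linearization of `Q / Z(Q)` (first part, the model)
-/

set_option autoImplicit false
set_option linter.unusedSectionVars false
set_option linter.unusedVariables false

universe u

namespace Cfsg.Agent.H557.PartW

open Module Cfsg.Agent.H552 Cfsg.Agent.H557.PartC
open scoped commutatorElement

/-- a discrete logarithm -/
theorem exists_log (q : ℕ) [Fact q.Prime] (hq : q ≠ 2) :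
    ∃ l : (AlgebraicClosure (ZMod 2))ˣ → ZMod q,
      (∀ x y, x ^ q = 1 → y ^ q = 1 → l (x * y) = l x + l y) ∧ ∀ x, x ^ q = 1 → l x = 0 → x = 1 := by
  classical
  have hn : NeZero ((q : ℕ) : AlgebraicClosure (ZMod 2)) := by
    refine ⟨fun h => ?_⟩
    have : CharP (AlgebraicClosure (ZMod 2)) 2 :=
      charP_of_injective_algebraMap (algebraMap (ZMod 2) (AlgebraicClosure (ZMod 2))).injective 2
    have h1 := (CharP.cast_eq_zero_iff (AlgebraicClosure (ZMod 2)) 2 q).1 h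
    exact hq ((Nat.prime_dvd_prime_iff_eq Nat.prime_two (Fact.out : q.Prime)).1 h1).symm
  have hqp : 0 < q := (Fact.out : q.Prime).pos
  have : NeZero q := ⟨hqp.ne'⟩
  obtain ⟨ζ, hζ⟩ := HasEnoughRootsOfUnity.exists_primitiveRoot (AlgebraicClosure (ZMod 2)) q
  obtain ⟨u, rfl⟩ := hζ.isUnit hqp.ne'
  have hu : IsPrimitiveRoot u q := IsPrimitiveRoot.coe_units_iff.1 hζ
  have hz : ∀ x : (AlgebraicClosure (ZMod 2))ˣ, x ^ q = 1 → x ∈ Subgroup.zpowers u := fun x hx => by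
    rw [hu.zpowers_eq]; exact (mem_rootsOfUnity _ _).2 hx
  let e := hu.zmodEquivZPowers
  refine ⟨fun x => if h : x ∈ Subgroup.zpowers u then e.symm (Additive.ofMul ⟨x, h⟩) else 0, ?_, ?_⟩
  · intro x y hx hy
    have hx' := hz x hx
    have hy' := hz y hy
    beta_reduce
    rw [dif_pos hx', dif_pos hy', dif_pos (Subgroup.mul_mem _ hx' hy'), ← map_add]
    rfl
  · intro x hx h
    beta_reduce at h
    rw [dif_pos (hz x hx)] at h
    have h1 : (Additive.ofMul (⟨x, hz x hx⟩ : Subgroup.zpowers u)) = 0 := by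
      rw [← e.symm.map_eq_zero_iff]; exact h
    exact congrArg (fun t : Additive (Subgroup.zpowers u) =>
      ((Additive.toMul t : Subgroup.zpowers u) : (AlgebraicClosure (ZMod 2))ˣ)) h1

noncomputable def lg (q : ℕ) [Fact q.Prime] (hq : q ≠ 2) : (AlgebraicClosure (ZMod 2))ˣ → ZMod q :=
  (exists_log q hq).choose

theorem lg_mul {q : ℕ} [Fact q.Prime] (hq : q ≠ 2) {x y : (AlgebraicClosure (ZMod 2))ˣ} (hx : x ^ q = 1)
    (hy : y ^ q = 1) : lg q hq (x * y) = lg q hq x + lg q hq y := (exists_log q hq).choose_spec.1 x y hx hy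

theorem eq_one_of_lg {q : ℕ} [Fact q.Prime] (hq : q ≠ 2) {x : (AlgebraicClosure (ZMod 2))ˣ} (hx : x ^ q = 1)
    (h : lg q hq x = 0) : x = 1 := (exists_log q hq).choose_spec.2 x hx h

theorem lg_one {q : ℕ} [Fact q.Prime] (hq : q ≠ 2) : lg q hq 1 = 0 := by
  have h := lg_mul hq (x := 1) (y := 1) (one_pow q) (one_pow q)
  rw [one_mul] at h
  exact (left_eq_add.1 h)

/-! ### the model -/

section Model

variable {G : Type u} [Group G]

/-- a model of `Q / Z(Q)` -/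
structure Model (Q : Subgroup G) (W : Type u) [AddCommGroup W] where
  π : Q → W
  surj : Function.Surjective π
  mul : ∀ a b, π (a * b) = π a + π b
  ker : ∀ a, π a = 0 ↔ (a : G) ∈ D1.ZQ Q

variable {Q : Subgroup G} {W : Type u} [AddCommGroup W]

namespace Model

theorem one (M : Model Q W) : M.π 1 = 0 := (M.ker 1).2 (Subgroup.one_mem _)

theorem inv (M : Model Q W) (a : Q) : M.π a⁻¹ = - M.π a := by
  rw [eq_neg_iff_add_eq_zero, ← M.mul, inv_mul_cancel, M.one]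

theorem pow (M : Model Q W) (a : Q) (n : ℕ) : M.π (a ^ n) = n • M.π a := by
  induction n with
  | zero => rw [pow_zero, M.one, zero_nsmul]
  | succ n ih => rw [pow_succ, M.mul, ih, succ_nsmul]

theorem eq_iff (M : Model Q W) (a b : Q) : M.π a = M.π b ↔ ((a⁻¹ * b : Q) : G) ∈ D1.ZQ Q := by
  rw [← M.ker, M.mul, M.inv, neg_add_eq_zero]

theorem comm (M : Model Q W) (a b : Q) : ⁅(a : G), (b : G)⁆ ∈ D1.ZQ Q := by
  have h1 : M.π (a * b * a⁻¹ * b⁻¹) = 0 := by
    rw [M.mul, M.mul, M.mul, M.inv, M.inv]; abel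
  exact (M.ker _).1 h1

/-- conjugation -/
def act [hn : Q.Normal] (g : G) (a : Q) : Q := ⟨g * a * g⁻¹, hn.conj_mem a a.2 g⟩

theorem act_mul [hn : Q.Normal] (g : G) (a b : Q) : act g (a * b) = act g a * act g b := by
  apply Subtype.ext
  show g * (a * b) * g⁻¹ = (g * a * g⁻¹) * (g * b * g⁻¹)
  group

/-- a representative -/
noncomputable def rep (M : Model Q W) (w : W) : Q := (M.surj w).choose

theorem π_rep (M : Model Q W) (w : W) : M.π (M.rep w) = w := (M.surj w).choose_spec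

variable [hn : Q.Normal]

theorem act_eq (M : Model Q W) (g : G) {a b : Q} (h : M.π a = M.π b) : M.π (act g a) = M.π (act g b) := by
  rw [M.eq_iff] at h ⊢
  have : (D1.ZQ Q).Normal := inferInstance
  have h2 := this.conj_mem _ h g
  refine (congrArg (· ∈ D1.ZQ Q) ?_).mp h2
  show g * ((a : G)⁻¹ * (b : G)) * g⁻¹ = (g * (a : G) * g⁻¹)⁻¹ * (g * (b : G) * g⁻¹)
  group

/-- the action of `g` -/
noncomputable def sig (M : Model Q W) (g : G) : W →+ W where
  toFun w := M.π (act g (M.rep w))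
  map_zero' := by
    rw [M.act_eq g (b := 1) (by rw [M.π_rep, M.one]), ← M.one]
    congr 1
    apply Subtype.ext
    show g * 1 * g⁻¹ = 1
    group
  map_add' := by
    intro x y
    rw [← M.mul, ← act_mul]
    apply M.act_eq
    rw [M.mul, M.π_rep, M.π_rep, M.π_rep]

theorem sig_apply (M : Model Q W) (g : G) (a : Q) : M.sig g (M.π a) = M.π (act g a) :=
  M.act_eq g (M.π_rep _)

/-- the representation -/
noncomputable def sigma {q : ℕ} [Module (ZMod q) W] (M : Model Q W) : G →* Module.End (ZMod q) W where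
  toFun g := (M.sig g).toZModLinearMap q
  map_one' := by
    ext w
    obtain ⟨a, rfl⟩ := M.surj w
    show M.sig 1 (M.π a) = M.π a
    rw [M.sig_apply]
    congr 1
    apply Subtype.ext
    show 1 * (a : G) * 1⁻¹ = a
    group
  map_mul' := by
    intro g h
    ext w
    obtain ⟨a, rfl⟩ := M.surj w
    show M.sig (g * h) (M.π a) = M.sig g (M.sig h (M.π a))
    rw [M.sig_apply, M.sig_apply, M.sig_apply]
    congr 1
    apply Subtype.ext
    show g * h * (a : G) * (g * h)⁻¹ = g * (h * (a : G) * h⁻¹) * g⁻¹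
    group

theorem sigma_apply {q : ℕ} [Module (ZMod q) W] (M : Model Q W) (g : G) (a : Q) :
    M.sigma (q := q) g (M.π a) = M.π (act g a) := M.sig_apply g a

end Model

end Model

/-! ### existence -/

section Existence

variable {G : Type u} [Group G] [Finite G] {k : ℕ} {Q R : Subgroup G}

theorem exists_model (h : D1 k Q R) : ∃ (W : Type u) (_ : AddCommGroup W) (_ : Finite W), Nonempty (Model Q W) := by
  have hQn := h.normalQ
  let Z' : Subgroup Q := (D1.ZQ Q).subgroupOf Q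
  have hZn : Z'.Normal := Subgroup.Normal.subgroupOf h.normalZQ Q
  have hcomm : ∀ a b : Q, ⁅a, b⁆ ∈ Z' := fun a b =>
    h.comm_QQ_le (Subgroup.commutator_mem_commutator a.2 b.2)
  let cg : CommGroup (Q ⧸ Z') := { (inferInstance : Group (Q ⧸ Z')) with
    mul_comm := by
      intro x y
      obtain ⟨a, rfl⟩ := QuotientGroup.mk'_surjective Z' x
      obtain ⟨b, rfl⟩ := QuotientGroup.mk'_surjective Z' y
      rw [← commutatorElement_eq_one_iff_mul_comm, ← map_commutatorElement]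
      exact (QuotientGroup.eq_one_iff _).2 (hcomm a b) }
  refine ⟨Additive (Q ⧸ Z'), inferInstance, inferInstance, ⟨⟨fun a => Additive.ofMul (QuotientGroup.mk' Z' a), ?_, ?_, ?_⟩⟩⟩
  · intro w
    obtain ⟨a, ha⟩ := QuotientGroup.mk'_surjective Z' (Additive.toMul w)
    exact ⟨a, congrArg Additive.ofMul ha⟩
  · intro a b
    rfl
  · intro a
    have h1 : (Additive.ofMul (QuotientGroup.mk' Z' a) = (0 : Additive (Q ⧸ Z'))) ↔ QuotientGroup.mk' Z' a = 1 := Iff.rfl
    rw [h1]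
    exact (QuotientGroup.eq_one_iff _).trans Subgroup.mem_subgroupOf

/-- invariant subgroups of the model -/
theorem Model.irr (h : D1 k Q R) {W : Type u} [AddCommGroup W] (M : Model Q W) (A : AddSubgroup W)
    (hA : ∀ (g : G) (a : Q), M.π a ∈ A → ∀ hg : g * (a : G) * g⁻¹ ∈ Q, M.π ⟨g * (a : G) * g⁻¹, hg⟩ ∈ A) :
    A = ⊥ ∨ A = ⊤ := by
  have hQn := h.normalQ
  let Q₁ : Subgroup G :=
    { carrier := {a | ∃ ha : a ∈ Q, M.π ⟨a, ha⟩ ∈ A}
      one_mem' := ⟨Q.one_mem, by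
        have : M.π ⟨1, Q.one_mem⟩ = 0 := M.one
        rw [this]; exact A.zero_mem⟩
      mul_mem' := by
        rintro a b ⟨ha, ha'⟩ ⟨hb, hb'⟩
        refine ⟨Q.mul_mem ha hb, ?_⟩
        have : M.π ⟨a * b, Q.mul_mem ha hb⟩ = M.π ⟨a, ha⟩ + M.π ⟨b, hb⟩ := M.mul ⟨a, ha⟩ ⟨b, hb⟩
        rw [this]
        exact A.add_mem ha' hb'
      inv_mem' := by
        rintro a ⟨ha, ha'⟩
        refine ⟨Q.inv_mem ha, ?_⟩
        have : M.π ⟨a⁻¹, Q.inv_mem ha⟩ = - M.π ⟨a, ha⟩ := M.inv ⟨a, ha⟩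
        rw [this]
        exact A.neg_mem ha' }
  have hn : Q₁.Normal := by
    refine ⟨?_⟩
    rintro a ⟨ha, ha'⟩ g
    exact ⟨hQn.conj_mem a ha g, hA g ⟨a, ha⟩ ha' _⟩
  rcases h.irr_Q hn (fun a ha => ha.1) with h1 | h1
  · right
    rw [eq_top_iff]
    intro w _
    obtain ⟨a, rfl⟩ := M.surj w
    have h2 : (a : G) ∈ Q₁ := by rw [h1]; exact a.2
    exact h2.2
  · left
    rw [eq_bot_iff]
    intro w hw
    obtain ⟨a, rfl⟩ := M.surj w
    exact (M.ker a).2 (h1 ⟨a.2, hw⟩)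

/-- exponent `q` -/
theorem Model.expq (h : D1 k Q R) (hab : ¬ Q ≤ Subgroup.centralizer (Q : Set G)) {q : ℕ} (hqQ : IsPGroup q Q)
    {W : Type u} [AddCommGroup W] [Finite W] (M : Model Q W) (w : W) : q • w = 0 := by
  have hQn := h.normalQ
  rcases M.irr h (nsmulAddMonoidHom (α := W) q).range (by
    intro g a ha hg
    obtain ⟨w, hw⟩ := ha
    refine ⟨M.sig g w, ?_⟩
    show q • M.sig g w = M.π ⟨g * (a : G) * g⁻¹, hg⟩
    have h1 : q • w = M.π a := hw
    rw [← map_nsmul, h1, M.sig_apply]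
    rfl) with h1 | h1
  · have h2 : q • w ∈ (nsmulAddMonoidHom (α := W) q).range := ⟨w, rfl⟩
    rw [h1] at h2
    exact h2
  · exfalso
    have hs : Function.Surjective (fun w : W => q • w) := by
      intro w
      have : w ∈ (nsmulAddMonoidHom (α := W) q).range := by rw [h1]; trivial
      exact this
    have hi : Function.Injective (fun w : W => q • w) := Finite.injective_iff_surjective.2 hs
    have h0 : ∀ w : W, w = 0 := by
      intro w
      obtain ⟨a, rfl⟩ := M.surj w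
      obtain ⟨n, hn⟩ := hqQ a
      have h2 : (q ^ n) • M.π a = 0 := by rw [← M.pow, hn, M.one]
      clear hn
      induction n with
      | zero => simpa using h2
      | succ n ih =>
        apply ih
        apply hi
        show q • (q ^ n • M.π a) = q • (0 : W)
        rw [smul_zero, smul_smul, ← pow_succ', h2]
    apply hab
    intro a ha
    exact ((M.ker ⟨a, ha⟩).1 (h0 _)).2

end Existence

end Cfsg.Agent.H557.PartW
end

-- part: H557/PartW2
section
/-!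
# Part W of S4258: the linearization of `Q / Z(Q)` (second part, the forms)
-/

set_option autoImplicit false
set_option linter.unusedSectionVars false
set_option linter.unusedVariables false

universe u

namespace Cfsg.Agent.H557.PartW

open Module Cfsg.Agent.H552 Cfsg.Agent.H557.PartC
open scoped commutatorElement TensorProduct

section Form

variable {G : Type u} [Group G] {Q : Subgroup G} {W : Type u} [AddCommGroup W] (M : Model Q W)
  {q : ℕ} [Fact q.Prime] (hq : q ≠ 2) (hexp : ∀ w : W, q • w = 0)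
  (μ : D1.ZQ Q →* (AlgebraicClosure (ZMod 2))ˣ)

/-- the commutator in `Z(Q)` -/
def cm (a b : Q) : D1.ZQ Q := ⟨⁅(a : G), (b : G)⁆, M.comm a b⟩

theorem ZQ_comm (c : D1.ZQ Q) (a : Q) : (c : G) * a = a * c := (c.2.2 a a.2).symm

theorem cm_mul_left (a b c : Q) : cm M (a * b) c = cm M a c * cm M b c := by
  apply Subtype.ext
  show ⁅(a : G) * b, (c : G)⁆ = ⁅(a : G), (c : G)⁆ * ⁅(b : G), (c : G)⁆
  have h1 : (⁅(b : G), (c : G)⁆ : G) * (a : G)⁻¹ = (a : G)⁻¹ * ⁅(b : G), (c : G)⁆ :=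
    ZQ_comm ⟨_, M.comm b c⟩ a⁻¹
  have h2 : (⁅(b : G), (c : G)⁆ : G) * (c : G) = (c : G) * ⁅(b : G), (c : G)⁆ :=
    ZQ_comm ⟨_, M.comm b c⟩ c
  have h3 : ⁅(a : G) * b, (c : G)⁆ = (a : G) * ((⁅(b : G), (c : G)⁆ : G) * (c : G)) * (a : G)⁻¹ * (c : G)⁻¹ := by
    rw [commutatorElement_def, commutatorElement_def]; group
  rw [h3, h2]
  have h4 : (a : G) * ((c : G) * ⁅(b : G), (c : G)⁆) * (a : G)⁻¹ * (c : G)⁻¹ =
      (a : G) * (c : G) * (⁅(b : G), (c : G)⁆ * (a : G)⁻¹) * (c : G)⁻¹ := by group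
  have h5 : (c : G)⁻¹ * ⁅(b : G), (c : G)⁆ = ⁅(b : G), (c : G)⁆ * (c : G)⁻¹ :=
    (ZQ_comm ⟨_, M.comm b c⟩ c⁻¹).symm
  rw [h4, h1]
  calc (a : G) * (c : G) * ((a : G)⁻¹ * ⁅(b : G), (c : G)⁆) * (c : G)⁻¹
      = (a : G) * (c : G) * (a : G)⁻¹ * (⁅(b : G), (c : G)⁆ * (c : G)⁻¹) := by group
    _ = (a : G) * (c : G) * (a : G)⁻¹ * ((c : G)⁻¹ * ⁅(b : G), (c : G)⁆) := by rw [h5]
    _ = _ := by rw [commutatorElement_def (a : G)]; group

theorem cm_inv (a b : Q) : cm M b a = (cm M a b)⁻¹ := by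
  apply Subtype.ext
  show ⁅(b : G), (a : G)⁆ = (⁅(a : G), (b : G)⁆)⁻¹
  rw [commutatorElement_inv]

theorem ZQ_comm' (c d : D1.ZQ Q) : c * d = d * c := Subtype.ext (ZQ_comm c ⟨d, d.2.1⟩)

theorem cm_mul_right (a b c : Q) : cm M a (b * c) = cm M a b * cm M a c := by
  rw [cm_inv M (b * c) a, cm_mul_left, cm_inv M b a, cm_inv M c a, mul_inv_rev, ZQ_comm']

theorem cm_self (a : Q) : cm M a a = 1 := Subtype.ext (commutatorElement_self _)

theorem cm_eq_one_of_ZQ {a : Q} (ha : (a : G) ∈ D1.ZQ Q) (b : Q) : cm M a b = 1 := by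
  apply Subtype.ext
  exact commutatorElement_eq_one_iff_mul_comm.2 (ZQ_comm ⟨_, ha⟩ b)

theorem cm_pow (a b : Q) (n : ℕ) : cm M (a ^ n) b = cm M a b ^ n := by
  induction n with
  | zero => rw [pow_zero, pow_zero]; exact cm_eq_one_of_ZQ M (Subgroup.one_mem _) b
  | succ n ih => rw [pow_succ, pow_succ, cm_mul_left, ih]

include hexp in
theorem cm_pow_q (a b : Q) : cm M a b ^ q = 1 := by
  rw [← cm_pow]
  apply cm_eq_one_of_ZQ
  rw [← M.ker, M.pow, hexp]

include hexp in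
theorem mu_pow (a b : Q) : (μ (cm M a b)) ^ q = 1 := by
  rw [← map_pow, cm_pow_q M hexp, map_one]

/-- the form on `Q` -/
noncomputable def F (a b : Q) : ZMod q := lg q hq (μ (cm M a b))

include hexp in
theorem F_mul_left (a b c : Q) : F M hq μ (a * b) c = F M hq μ a c + F M hq μ b c := by
  unfold F
  rw [cm_mul_left, map_mul, lg_mul hq (mu_pow M hexp μ a c) (mu_pow M hexp μ b c)]

include hexp in
theorem F_mul_right (a b c : Q) : F M hq μ a (b * c) = F M hq μ a b + F M hq μ a c := by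
  unfold F
  rw [cm_mul_right, map_mul, lg_mul hq (mu_pow M hexp μ a b) (mu_pow M hexp μ a c)]

theorem F_self (a : Q) : F M hq μ a a = 0 := by
  unfold F
  rw [cm_self, map_one, lg_one]

include hexp in
theorem F_eq_zero (a b : Q) (h : F M hq μ a b = 0) : μ (cm M a b) = 1 := eq_one_of_lg hq (mu_pow M hexp μ a b) h

include hexp in
theorem F_congr {a a' b b' : Q} (h : M.π a = M.π a') (h' : M.π b = M.π b') : F M hq μ a b = F M hq μ a' b' := by
  have h1 : ∀ a a' b : Q, M.π a = M.π a' → F M hq μ a b = F M hq μ a' b := by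
    intro a a' b h
    have h2 := (M.eq_iff a a').1 h
    have h3 : a' = a * (a⁻¹ * a') := by group
    rw [h3, F_mul_left M hq hexp]
    have h4 : F M hq μ (a⁻¹ * a') b = 0 := by
      unfold F
      rw [cm_eq_one_of_ZQ M h2, map_one, lg_one]
    rw [h4, add_zero]
  have h5 : ∀ a b b' : Q, M.π b = M.π b' → F M hq μ a b = F M hq μ a b' := by
    intro a b b' h
    have h2 := (M.eq_iff b b').1 h
    have h3 : b' = b * (b⁻¹ * b') := by group
    rw [h3, F_mul_right M hq hexp]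
    have h4 : F M hq μ a (b⁻¹ * b') = 0 := by
      unfold F
      rw [cm_inv, cm_eq_one_of_ZQ M h2, inv_one, map_one, lg_one]
    rw [h4, add_zero]
  rw [h1 a a' b h, h5 a' b b' h']

/-- the form on `W` -/
noncomputable def bf [Module (ZMod q) W] : W →ₗ[ZMod q] W →ₗ[ZMod q] ZMod q :=
  AddMonoidHom.toZModLinearMap q
    { toFun := fun x => AddMonoidHom.toZModLinearMap q
        { toFun := fun y => F M hq μ (M.rep x) (M.rep y)
          map_zero' := by
            rw [F_congr M hq hexp μ (a' := M.rep x) (b' := 1) rfl (by rw [M.π_rep, M.one])]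
            unfold F
            rw [cm_inv, cm_eq_one_of_ZQ M (Subgroup.one_mem _), inv_one, map_one, lg_one]
          map_add' := by
            intro y z
            rw [← F_mul_right M hq hexp]
            exact F_congr M hq hexp μ rfl (by rw [M.mul, M.π_rep, M.π_rep, M.π_rep]) }
      map_zero' := by
        ext y
        show F M hq μ (M.rep 0) (M.rep y) = 0
        rw [F_congr M hq hexp μ (a' := 1) (b' := M.rep y) (by rw [M.π_rep, M.one]) rfl]
        unfold F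
        rw [cm_eq_one_of_ZQ M (Subgroup.one_mem _), map_one, lg_one]
      map_add' := by
        intro x z
        ext y
        show F M hq μ (M.rep (x + z)) (M.rep y) = F M hq μ (M.rep x) (M.rep y) + F M hq μ (M.rep z) (M.rep y)
        rw [← F_mul_left M hq hexp]
        exact F_congr M hq hexp μ (by rw [M.mul, M.π_rep, M.π_rep, M.π_rep]) rfl }

theorem bf_apply [Module (ZMod q) W] (a b : Q) : bf M hq hexp μ (M.π a) (M.π b) = F M hq μ a b := by
  show F M hq μ (M.rep (M.π a)) (M.rep (M.π b)) = F M hq μ a b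
  exact F_congr M hq hexp μ (M.π_rep _) (M.π_rep _)

end Form

end Cfsg.Agent.H557.PartW
end

-- part: H557/PartW
section
/-!
# Part W of S4258: the linearization of `Q / Z(Q)`
-/

set_option autoImplicit false
set_option linter.unusedSectionVars false
set_option linter.unusedVariables false

universe u

namespace Cfsg.Agent.H557.PartW

open Module Cfsg.Agent.H552 Cfsg.Agent.H557.PartC
open scoped commutatorElement TensorProduct

/-- preimage in `G` of a subgroup of the model -/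
def Model.pre {G : Type u} [Group G] {Q : Subgroup G} {W : Type u} [AddCommGroup W] (M : Model Q W)
    (A : AddSubgroup W) : Subgroup G where
  carrier := {a | ∃ ha : a ∈ Q, M.π ⟨a, ha⟩ ∈ A}
  one_mem' := ⟨Q.one_mem, by
    have : M.π ⟨1, Q.one_mem⟩ = 0 := M.one
    rw [this]; exact A.zero_mem⟩
  mul_mem' := by
    rintro a b ⟨ha, ha'⟩ ⟨hb, hb'⟩
    refine ⟨Q.mul_mem ha hb, ?_⟩
    have : M.π ⟨a * b, Q.mul_mem ha hb⟩ = M.π ⟨a, ha⟩ + M.π ⟨b, hb⟩ := M.mul ⟨a, ha⟩ ⟨b, hb⟩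
    rw [this]
    exact A.add_mem ha' hb'
  inv_mem' := by
    rintro a ⟨ha, ha'⟩
    refine ⟨Q.inv_mem ha, ?_⟩
    have : M.π ⟨a⁻¹, Q.inv_mem ha⟩ = - M.π ⟨a, ha⟩ := M.inv ⟨a, ha⟩
    rw [this]
    exact A.neg_mem ha'

theorem Model.mem_pre {G : Type u} [Group G] {Q : Subgroup G} {W : Type u} [AddCommGroup W] (M : Model Q W)
    (A : AddSubgroup W) (a : Q) : (a : G) ∈ M.pre A ↔ M.π a ∈ A :=
  ⟨fun ⟨_, h⟩ => h, fun h => ⟨a.2, h⟩⟩

section Main

variable {G : Type u} [Group G] [Finite G] {k : ℕ} {Q R : Subgroup G}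

/-- the weights of `Z(Q)` -/
def Wt (Q : Subgroup G) {V : Type u} [AddCommGroup V] [Module (ZMod 2) V] [Finite V]
    (ρ : G →* Module.End (ZMod 2) V) : Type u :=
  {μ : D1.ZQ Q →* (AlgebraicClosure (ZMod 2))ˣ // ∃ v : (AlgebraicClosure (ZMod 2)) ⊗[ZMod 2] V, v ≠ 0 ∧
    ∀ c : D1.ZQ Q, bc ρ (c : G) v = ((μ c : (AlgebraicClosure (ZMod 2))ˣ) : AlgebraicClosure (ZMod 2)) • v}

variable {V : Type u} [AddCommGroup V] [Module (ZMod 2) V] [Finite V] (ρ : G →* Module.End (ZMod 2) V)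
  {W : Type u} [AddCommGroup W] [Finite W] (M : Model Q W) {q : ℕ} [Fact q.Prime] (hq : q ≠ 2)

theorem odd_ne_two (h : D1 k Q R) (hqQ : IsPGroup q Q) : q ≠ 2 := by
  rintro rfl
  obtain ⟨n, hn⟩ := hqQ.exists_card_eq
  have h1 := h.oddQ
  rw [hn] at h1
  have h2 : n = 0 := by
    by_contra h0
    exact (Nat.not_even_iff_odd.2 h1) ((Nat.even_pow.2 ⟨even_two, h0⟩))
  rw [h2, pow_zero] at hn
  exact h.QneBot (Subgroup.eq_bot_of_card_eq _ hn)

theorem zq_comm (a : G) (ha : a ∈ D1.ZQ Q) (b : G) (hb : b ∈ D1.ZQ Q) : a * b = b * a := (ha.2 b hb.1).symm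

include hq in
/-- an element of `Z(Q)` killed by all weights is trivial -/
theorem eq_one_of_wt (hqQ : IsPGroup q Q) (hρ : ∀ g, ρ g = 1 → g = 1) (c : D1.ZQ Q)
    (hc : ∀ μ : Wt Q ρ, μ.1 c = 1) : c = 1 := by
  by_contra hne
  obtain ⟨μ, hv, hμ⟩ := PartC.W (bc ρ) hq (hqQ.to_le (inf_le_left : D1.ZQ Q ≤ Q)) zq_comm
    (fun a _ h => hρ a (bc_inj ρ h)) c hne
  exact hμ (hc ⟨μ, hv⟩)

include hq in
/-- `y ^ 2 ^ k` centralizes `Z(Q)` -/
theorem z_cent (h : D1 k Q R) (hqQ : IsPGroup q Q) (hρ : ∀ g, ρ g = 1 → g = 1)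
    (hN : ∀ y : G, IsTwo y → (ρ y - 1) ^ (2 ^ (k + 1) - 1) = 0) {y : G} (hy : IsTwo y) {A : Subgroup G}
    (hA : A ≤ Q) (hyA : y ∈ Subgroup.normalizer (A : Set G)) (hcomm : ∀ a ∈ A, ∀ b ∈ A, a * b = b * a) :
    ∀ a ∈ A, y ^ 2 ^ k * a = a * y ^ 2 ^ k := by
  intro a ha
  have := E1Z ρ hq (e := k + 1) (by omega) (hN y hy) (hqQ.to_le hA) hyA hcomm (fun a _ h => hρ a h) a ha
  simpa using this

theorem conj_cm (g : G) [hQn : Q.Normal] (hg : ∀ c ∈ D1.ZQ Q, g * c = c * g) (a b : Q) :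
    cm M (Model.act g a) (Model.act g b) = cm M a b := by
  apply Subtype.ext
  show ⁅g * (a : G) * g⁻¹, g * (b : G) * g⁻¹⁆ = ⁅(a : G), (b : G)⁆
  have h1 : ⁅g * (a : G) * g⁻¹, g * (b : G) * g⁻¹⁆ = g * ⁅(a : G), (b : G)⁆ * g⁻¹ := by
    rw [commutatorElement_def, commutatorElement_def]; group
  rw [h1, hg _ (M.comm a b), mul_inv_cancel_right]

theorem bf_conj [Module (ZMod q) W] (hexp : ∀ w : W, q • w = 0) (g : G) [hQn : Q.Normal]
    (hg : ∀ c ∈ D1.ZQ Q, g * c = c * g) (μ : D1.ZQ Q →* (AlgebraicClosure (ZMod 2))ˣ) (w w' : W) :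
    bf M hq hexp μ (M.sigma (q := q) g w) (M.sigma (q := q) g w') = bf M hq hexp μ w w' := by
  obtain ⟨a, rfl⟩ := M.surj w
  obtain ⟨b, rfl⟩ := M.surj w'
  rw [M.sigma_apply, M.sigma_apply, bf_apply, bf_apply]
  unfold F
  rw [conj_cm M g hg]

/-- the field `faithR` -/
theorem faithR (h : D1 k Q R) (hab : ¬ Q ≤ Subgroup.centralizer (Q : Set G)) [Module (ZMod q) W] [hQn : Q.Normal]
    {r : G} (hr : r ∈ R) (h1 : M.sigma (q := q) r = 1) : r = 1 := by
  have hA : Subgroup.zpowers r ≤ R := Subgroup.zpowers_le.2 hr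
  have hA2 : IsPGroup 2 (Subgroup.zpowers r) := h.hR.to_le hA
  have hnil := hA2.isNilpotent
  have hsol : Group.IsSolvable (Subgroup.zpowers r) := inferInstance
  have h2 : ⁅Q, Subgroup.zpowers r⁆ ≤ D1.ZQ Q := by
    rw [Subgroup.commutator_le]
    rintro a ha s ⟨n, rfl⟩
    have h3 : M.sigma (q := q) (r ^ n) = 1 :=
      (M.sigma (q := q)).ker.zpow_mem (show r ∈ (M.sigma (q := q)).ker from h1) n
    have h4 := congrArg (fun f : Module.End (ZMod q) W => f (M.π ⟨a, ha⟩)) h3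
    simp only [Module.End.one_apply] at h4
    rw [M.sigma_apply, M.eq_iff] at h4
    have h5 : (D1.ZQ Q).Normal := inferInstance
    have h6 := h5.conj_mem _ h4 a
    refine (congrArg (· ∈ D1.ZQ Q) ?_).mp h6
    show a * ((r ^ n * a * (r ^ n)⁻¹)⁻¹ * a) * a⁻¹ = a * r ^ n * a⁻¹ * (r ^ n)⁻¹
    group
  have h3 : ⁅⁅Q, Subgroup.zpowers r⁆, Subgroup.zpowers r⁆ = ⊥ := by
    rw [Subgroup.commutator_eq_bot_iff_le_centralizer, Subgroup.le_centralizer_iff]
    exact hA.trans (h.hRU.trans ((h.U_le_cent_ZQ hab).trans (Subgroup.centralizer_le h2)))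
  have h4 := S0027.result (Subgroup.zpowers r) Q (h.le_normQ _)
    (h.coprime.coprime_dvd_left (Subgroup.card_dvd_of_le hA)) (Or.inl hsol)
  rw [h3] at h4
  have h5 : Q ≤ Subgroup.centralizer (Subgroup.zpowers r : Set G) :=
    Subgroup.commutator_eq_bot_iff_le_centralizer.1 h4.symm
  exact h.propP (isTwo_of_isPGroup h.hR hr) fun a ha => h5 ha r (Subgroup.mem_zpowers r)

/-- the field `fixR` -/
theorem fixR (h : D1 k Q R) [Module (ZMod q) W] [hQn : Q.Normal]
    (w : W) (hw : ∀ r ∈ R, M.sigma (q := q) r w = w) : w = 0 := by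
  obtain ⟨a, rfl⟩ := M.surj w
  have hZn : (D1.ZQ Q).Normal := inferInstance
  let f := QuotientGroup.mk' (D1.ZQ Q)
  have hfs : Function.Surjective f := QuotientGroup.mk'_surjective _
  have : IsMulCommutative (Q.map f) := by
    refine ⟨⟨?_⟩⟩
    rintro ⟨_, a, ha, rfl⟩ ⟨_, b, hb, rfl⟩
    refine Subtype.ext ?_
    show f a * f b = f b * f a
    rw [← commutatorElement_eq_one_iff_mul_comm, ← map_commutatorElement]
    exact (QuotientGroup.eq_one_iff _).2 (h.comm_QQ_le (Subgroup.commutator_mem_commutator ha hb))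
  have h2 := S0055.result (R.map f) (Q.map f) (by
      have : (Q.map f).Normal := hQn.map f hfs
      rw [Subgroup.normalizer_eq_top_iff.2 inferInstance]; exact le_top)
    (Nat.Coprime.of_dvd_left (Subgroup.card_map_dvd R f) <|
      Nat.Coprime.of_dvd_right (Subgroup.card_map_dvd Q f) h.coprime)
  have h3 : ⁅Q.map f, R.map f⁆ = Q.map f := by rw [← Subgroup.map_commutator, h.comm_eq]
  rw [h3] at h2
  have h4 : f (a : G) ∈ Q.map f ⊓ Subgroup.centralizer (R.map f : Set (G ⧸ D1.ZQ Q)) ⊓ Q.map f := by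
    refine ⟨⟨⟨a, a.2, rfl⟩, ?_⟩, ⟨a, a.2, rfl⟩⟩
    rintro _ ⟨r, hr, rfl⟩
    have h5 := hw r hr
    rw [M.sigma_apply, M.eq_iff] at h5
    have h6 : f (r * (a : G) * r⁻¹) = f a := by
      rw [← inv_mul_eq_one, ← map_inv, ← map_mul]
      exact (QuotientGroup.eq_one_iff _).2 h5
    rw [map_mul, map_mul, map_inv, mul_inv_eq_iff_eq_mul] at h6
    exact h6
  rw [h2.1] at h4
  exact (M.ker a).2 ((QuotientGroup.eq_one_iff _).1 h4)

/-- the field `perm` -/
theorem perm [Module (ZMod q) W] [hQn : Q.Normal] (hexp : ∀ w : W, q • w = 0) (g : G) (μ : Wt Q ρ) :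
    ∃ μ' : Wt Q ρ, ∀ w w', bf M hq hexp μ.1 (M.sigma (q := q) g w) (M.sigma (q := q) g w') =
      bf M hq hexp μ'.1 w w' := by
  have hZn : (D1.ZQ Q).Normal := inferInstance
  obtain ⟨μ, v, hv0, hv⟩ := μ
  let cj : D1.ZQ Q →* D1.ZQ Q :=
    { toFun := fun c => ⟨g * c * g⁻¹, hZn.conj_mem c c.2 g⟩
      map_one' := Subtype.ext (by show g * 1 * g⁻¹ = 1; group)
      map_mul' := fun a b => Subtype.ext (by
        show g * ((a : G) * b) * g⁻¹ = (g * a * g⁻¹) * (g * b * g⁻¹)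
        group) }
  refine ⟨⟨μ.comp cj, bc ρ g⁻¹ v, ?_, ?_⟩, ?_⟩
  · intro h
    apply hv0
    have h1 : bc ρ g (bc ρ g⁻¹ v) = v := by
      rw [← Module.End.mul_apply, ← map_mul, mul_inv_cancel, map_one, Module.End.one_apply]
    rw [← h1, h, map_zero]
  · intro c
    have h1 : bc ρ (c : G) (bc ρ g⁻¹ v) = bc ρ g⁻¹ (bc ρ (g * c * g⁻¹) v) := by
      rw [← Module.End.mul_apply, ← Module.End.mul_apply, ← map_mul, ← map_mul]
      congr 2
      group
    rw [h1]
    have h2 := hv (cj c)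
    have h3 : bc ρ (g * c * g⁻¹) v = ((μ (cj c) : (AlgebraicClosure (ZMod 2))ˣ) : AlgebraicClosure (ZMod 2)) • v := h2
    rw [h3, map_smul]
    rfl
  · intro w w'
    obtain ⟨a, rfl⟩ := M.surj w
    obtain ⟨b, rfl⟩ := M.surj w'
    rw [M.sigma_apply, M.sigma_apply, bf_apply, bf_apply]
    unfold F
    have h1 : cm M (Model.act g a) (Model.act g b) = cj (cm M a b) := by
      apply Subtype.ext
      show ⁅g * (a : G) * g⁻¹, g * (b : G) * g⁻¹⁆ = g * ⁅(a : G), (b : G)⁆ * g⁻¹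
      rw [commutatorElement_def, commutatorElement_def]; group
    rw [h1]
    rfl

include hq in
/-- the field `E1` -/
theorem fieldE1 (h : D1 k Q R) (hqQ : IsPGroup q Q) (hρ : ∀ g, ρ g = 1 → g = 1)
    (hN : ∀ y : G, IsTwo y → (ρ y - 1) ^ (2 ^ (k + 1) - 1) = 0)
    [Module (ZMod q) W] [hQn : Q.Normal] (hexp : ∀ w : W, q • w = 0)
    {y : G} (hy : IsTwo y) (A : Submodule (ZMod q) W) (hA : ∀ w ∈ A, M.sigma (q := q) y w ∈ A)
    (hiso : ∀ w ∈ A, ∀ w' ∈ A, ∀ i : Wt Q ρ, bf M hq hexp i.1 w w' = 0) :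
    ∀ w ∈ A, M.sigma (q := q) (y ^ 2 ^ k) w = w := by
  have hyn : ∀ n : ℕ, ∀ w ∈ A, M.sigma (q := q) (y ^ n) w ∈ A := by
    intro n
    induction n with
    | zero => intro w hw; rw [pow_zero, map_one]; exact hw
    | succ n ih =>
      intro w hw
      rw [pow_succ, map_mul]
      exact ih _ (hA w hw)
  have hord : ∃ n : ℕ, y⁻¹ = y ^ n := by
    refine ⟨orderOf y - 1, ?_⟩
    rw [inv_eq_of_mul_eq_one_left]
    rw [← pow_succ, Nat.sub_add_cancel (orderOf_pos y), pow_orderOf_eq_one]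
  have key : ∀ n : ℕ, ∀ a ∈ M.pre A.toAddSubgroup, y ^ n * a * (y ^ n)⁻¹ ∈ M.pre A.toAddSubgroup := by
    rintro n a ⟨ha, ha'⟩
    have h1 := hyn n _ ha'
    rw [M.sigma_apply] at h1
    exact ⟨_, h1⟩
  have hyA : y ∈ Subgroup.normalizer ((M.pre A.toAddSubgroup : Subgroup G) : Set G) := by
    rw [Subgroup.mem_normalizer_iff]
    intro a
    constructor
    · intro ha
      simpa using key 1 a ha
    · intro ha
      obtain ⟨n, hn⟩ := hord
      have h1 := key n _ ha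
      rw [← hn] at h1
      have h2 : y⁻¹ * (y * a * y⁻¹) * y⁻¹⁻¹ = a := by group
      rwa [h2] at h1
  have hcomm : ∀ a ∈ M.pre A.toAddSubgroup, ∀ b ∈ M.pre A.toAddSubgroup, a * b = b * a := by
    rintro a ⟨ha, ha'⟩ b ⟨hb, hb'⟩
    have h1 : cm M ⟨a, ha⟩ ⟨b, hb⟩ = 1 := by
      refine eq_one_of_wt ρ hq hqQ hρ _ fun μ => ?_
      apply F_eq_zero M hq hexp
      rw [← bf_apply M hq hexp]
      exact hiso _ ha' _ hb' μ
    have h2 : ⁅a, b⁆ = 1 := congrArg Subtype.val h1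
    exact commutatorElement_eq_one_iff_mul_comm.1 h2
  have hcz := z_cent ρ hq h hqQ hρ hN hy (A := M.pre A.toAddSubgroup) (fun a ha => ha.1) hyA hcomm
  intro w hw
  obtain ⟨a, rfl⟩ := M.surj w
  rw [M.sigma_apply]
  congr 1
  apply Subtype.ext
  show y ^ 2 ^ k * (a : G) * (y ^ 2 ^ k)⁻¹ = a
  rw [hcz a ⟨a.2, hw⟩, mul_inv_cancel_right]

include hq in
/-- the field `E2` -/
theorem fieldE2 (h : D1 k Q R) (hqQ : IsPGroup q Q) (hρ : ∀ g, ρ g = 1 → g = 1)
    (hN : ∀ y : G, IsTwo y → (ρ y - 1) ^ (2 ^ (k + 1) - 1) = 0)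
    [Module (ZMod q) W] [hQn : Q.Normal] (hexp : ∀ w : W, q • w = 0)
    {y : G} (hy : IsTwo y) (μ : Wt Q ρ) :
    finrank (ZMod q) ((LinearMap.range (M.sigma (q := q) (y ^ 2 ^ k) - 1)).map
      (LinearMap.ker (bf M hq hexp μ.1)).mkQ) ≤ 2 := by
  have hqp : q.Prime := Fact.out
  have hZn : (D1.ZQ Q).Normal := inferInstance
  obtain ⟨μ, v, hv0, hv⟩ := μ
  show finrank (ZMod q) ((LinearMap.range (M.sigma (q := q) (y ^ 2 ^ k) - 1)).map
      (LinearMap.ker (bf M hq hexp μ)).mkQ) ≤ 2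
  set N := LinearMap.ker (bf M hq hexp μ) with hNdef
  let φ : Q →* Multiplicative (W ⧸ N) :=
    { toFun := fun a => Multiplicative.ofAdd (N.mkQ (M.π a))
      map_one' := by rw [M.one, map_zero]; rfl
      map_mul' := fun a b => by rw [M.mul, map_add]; rfl }
  have hφ : ∀ a : Q, a ∈ φ.ker ↔ ∀ b : Q, μ (cm M a b) = 1 := by
    intro a
    have h1 : a ∈ φ.ker ↔ N.mkQ (M.π a) = 0 := Iff.rfl
    rw [h1, Submodule.mkQ_apply, Submodule.Quotient.mk_eq_zero, hNdef, LinearMap.mem_ker]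
    constructor
    · intro h2 b
      apply F_eq_zero M hq hexp
      rw [← bf_apply M hq hexp, h2]
      rfl
    · intro h2
      ext w
      obtain ⟨b, rfl⟩ := M.surj w
      rw [bf_apply]
      unfold F
      rw [h2, lg_one]
      rfl
  let S : Subgroup G := φ.ker.map Q.subtype
  have hS : ∀ a, a ∈ S ↔ a ∈ Q ∧ ∀ b ∈ Q, ∀ h : ⁅a, b⁆ ∈ D1.ZQ Q, μ ⟨⁅a, b⁆, h⟩ = 1 := by
    intro a
    constructor
    · rintro ⟨a, ha, rfl⟩
      exact ⟨a.2, fun b hb _ => (hφ a).1 ha ⟨b, hb⟩⟩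
    · rintro ⟨ha, h2⟩
      exact ⟨⟨a, ha⟩, (hφ _).2 fun b => h2 b b.2 _, rfl⟩
  have hE := PartC.E2 (bc ρ) hq (e := k + 1) (by omega) (bc_pow ρ (hN y hy)) hqQ
    (inf_le_left : D1.ZQ Q ≤ Q) (fun c hc a ha => (hc.2 a ha).symm) (fun a ha b hb => M.comm ⟨a, ha⟩ ⟨b, hb⟩)
    (h.le_normQ ⊤ (Subgroup.mem_top y))
    (by rw [Subgroup.normalizer_eq_top_iff.2 hZn]; exact Subgroup.mem_top y)
    (by
      intro c hc
      have := z_cent ρ hq h hqQ hρ hN hy (A := D1.ZQ Q) inf_le_left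
        (by rw [Subgroup.normalizer_eq_top_iff.2 hZn]; exact Subgroup.mem_top y) zq_comm c hc
      simpa using this)
    μ hv0 hv hS
  rw [Nat.add_sub_cancel] at hE
  set z := y ^ 2 ^ k with hz
  set L := ⁅Q, Subgroup.zpowers z⁆ ⊔ S with hL
  have hSQ : S ≤ Q := fun a ha => ((hS a).1 ha).1
  have hLQ : L ≤ Q := sup_le (Subgroup.le_normalizer_iff_commutator_le_left.1 (h.le_normQ _)) hSQ
  have h1 : (S.comap Q.subtype).relIndex (L.subgroupOf Q) = S.relIndex L := by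
    rw [Subgroup.relIndex_comap, Subgroup.subgroupOf_map_subtype, inf_eq_left.2 hLQ]
  have h2 : S.comap Q.subtype = φ.ker := Subgroup.comap_map_eq_self_of_injective Q.subtype_injective _
  rw [h2, Subgroup.relIndex_ker] at h1
  have h3 : Nat.card ((L.subgroupOf Q).map φ) ≤ q ^ 2 := by
    rw [h1]
    rcases hE with h4 | h4
    · rw [h4]; exact Nat.one_le_pow _ _ hqp.pos
    · rw [h4]
  have hfin0 : Finite (W ⧸ N) := Finite.of_surjective _ N.mkQ_surjective
  have hfin : Finite (Multiplicative (W ⧸ N)) := hfin0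
  have h4 : Nat.card ((LinearMap.range (M.sigma (q := q) z - 1)).map N.mkQ) ≤
      Nat.card ((L.subgroupOf Q).map φ) := by
    have key : ∀ x : ((LinearMap.range (M.sigma (q := q) z - 1)).map N.mkQ),
        Multiplicative.ofAdd x.1 ∈ (L.subgroupOf Q).map φ := by
      rintro ⟨_, _, ⟨w, rfl⟩, rfl⟩
      obtain ⟨a, rfl⟩ := M.surj w
      refine ⟨⟨z * a * z⁻¹ * (a : G)⁻¹, Q.mul_mem (hQn.conj_mem _ a.2 z) (Q.inv_mem a.2)⟩, ?_, ?_⟩
      · refine Subgroup.mem_sup_left ?_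
        rw [Subgroup.commutator_comm]
        exact Subgroup.commutator_mem_commutator (Subgroup.mem_zpowers z) a.2
      · have hw : M.π (Model.act z a * a⁻¹) = (M.sigma (q := q) z - 1) (M.π a) := by
          rw [M.mul, M.inv, LinearMap.sub_apply, M.sigma_apply, Module.End.one_apply, sub_eq_add_neg]
        exact congrArg (fun t => Multiplicative.ofAdd (N.mkQ t)) hw
    refine Nat.card_le_card_of_injective (fun x => ⟨Multiplicative.ofAdd x.1, key x⟩) ?_
    intro x x' hxx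
    apply Subtype.ext
    exact congrArg (fun t : ((L.subgroupOf Q).map φ) => Multiplicative.toAdd t.1) hxx
  have h5 := Module.natCard_eq_pow_finrank (K := ZMod q)
    (V := ((LinearMap.range (M.sigma (q := q) z - 1)).map N.mkQ))
  rw [Nat.card_zmod] at h5
  have h6 := h4.trans h3
  rw [h5] at h6
  exact (Nat.pow_le_pow_iff_right hqp.one_lt).1 h6

/-- **part W** -/
theorem exists_WD {k : ℕ} {Q R : Subgroup G} (h : D1 k Q R)
    (hab : ¬ Q ≤ Subgroup.centralizer (Q : Set G)) {V : Type u} [AddCommGroup V] [Module (ZMod 2) V] [Finite V]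
    (ρ : G →* Module.End (ZMod 2) V) (hρ : ∀ g, ρ g = 1 → g = 1)
    (hN : ∀ y : G, IsTwo y → (ρ y - 1) ^ (2 ^ (k + 1) - 1) = 0) :
    ∃ (q : ℕ) (_ : Fact q.Prime) (W : Type u) (_ : AddCommGroup W) (_ : Module (ZMod q) W) (_ : Finite W)
      (σ : G →* Module.End (ZMod q) W) (ι : Type u) (b : ι → W →ₗ[ZMod q] W →ₗ[ZMod q] ZMod q),
      WD k q Q R σ b := by
  have hQn := h.normalQ
  have hZn := h.normalZQ
  obtain ⟨q, hqp, hqQ⟩ := h.exists_prime
  have : Fact q.Prime := ⟨hqp⟩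
  have hq := odd_ne_two h hqQ
  obtain ⟨W, iW, fW, ⟨M⟩⟩ := exists_model h
  have hexp := M.expq h hab hqQ
  let mW : Module (ZMod q) W := AddCommGroup.zmodModule hexp
  refine ⟨q, inferInstance, W, iW, mW, fW, M.sigma (q := q), Wt Q ρ, fun μ => bf M hq hexp μ.1, ?_⟩
  have hRZ : ∀ r ∈ R, ∀ c ∈ D1.ZQ Q, r * c = c * r := fun r hr c hc =>
    (h.U_le_cent_ZQ hab (h.hRU hr) c hc).symm
  refine ⟨hq, ?_, ?_, ?_, ?_, ?_, ?_, ?_, ?_, ?_, ?_, ?_, ?_, ?_⟩
  · -- nontriv
    by_contra hcon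
    push Not at hcon
    exact hab fun a ha => ((M.ker ⟨a, ha⟩).1 (hcon _)).2
  · -- alt
    intro μ w
    obtain ⟨a, rfl⟩ := M.surj w
    rw [bf_apply, F_self]
  · -- nondeg
    intro w hw
    obtain ⟨a, rfl⟩ := M.surj w
    rw [M.ker]
    refine ⟨a.2, fun b hb => ?_⟩
    have h1 : cm M a ⟨b, hb⟩ = 1 := by
      refine eq_one_of_wt ρ hq hqQ hρ _ fun μ => ?_
      apply F_eq_zero M hq hexp
      rw [← bf_apply M hq hexp]
      exact hw μ _
    have h2 : ⁅(a : G), b⁆ = 1 := congrArg Subtype.val h1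
    exact (commutatorElement_eq_one_iff_mul_comm.1 h2).symm
  · -- trivQ
    intro a ha
    ext w
    obtain ⟨b, rfl⟩ := M.surj w
    rw [M.sigma_apply, Module.End.one_apply, M.eq_iff]
    have h1 := M.comm b⁻¹ ⟨a, ha⟩
    refine (congrArg (· ∈ D1.ZQ Q) ?_).mp ((D1.ZQ Q).mul_mem (M.comm ⟨a, ha⟩ b⁻¹) (Subgroup.one_mem _))
    show ⁅a, (b : G)⁻¹⁆ * 1 = (a * (b : G) * a⁻¹)⁻¹ * b
    rw [commutatorElement_def]
    group
  · -- faithR
    intro r hr h1
    exact faithR M h hab hr h1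
  · -- expo
    intro y hy
    apply hρ
    rw [map_pow]
    exact pow_eq_one (hN y hy)
  · -- invR
    intro r hr μ w w'
    exact bf_conj M hq hexp r (hRZ r hr) μ.1 w w'
  · -- invz
    intro y hy μ w w'
    exact bf_conj M hq hexp _ (z_cent ρ hq h hqQ hρ hN hy (A := D1.ZQ Q) inf_le_left
        (by rw [Subgroup.normalizer_eq_top_iff.2 hZn]; exact Subgroup.mem_top y) zq_comm) μ.1 w w'
  · -- perm
    intro g μ
    exact perm ρ M hq hexp g μ
  · -- irr
    intro A hA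
    rcases M.irr h A.toAddSubgroup (by
      intro g a ha hg
      have h1 := hA g _ ha
      rw [M.sigma_apply] at h1
      exact h1) with h1 | h1
    · left
      refine (Submodule.eq_bot_iff A).2 fun w hw => ?_
      have : w ∈ A.toAddSubgroup := hw
      rw [h1] at this
      exact this
    · right
      refine Submodule.eq_top_iff'.2 fun w => ?_
      have : w ∈ A.toAddSubgroup := by rw [h1]; trivial
      exact this
  · -- fixR
    intro w hw
    exact fixR M h w hw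
  · -- E1
    intro y hy A hA hiso
    exact fieldE1 ρ M hq h hqQ hρ hN hexp hy A hA hiso
  · -- E2
    intro y hy μ
    exact fieldE2 ρ M hq h hqQ hρ hN hexp hy μ

end Main

end Cfsg.Agent.H557.PartW
end
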